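import Cfsg.Agent.Lib.OddOrderTheorem.Basic
import Cfsg.Agent.Lib.Solvable.Hall
import Cfsg.Agent.Lib.Transfer.Alperin
import Cfsg.Agent.Lib.Transfer.Tate
import Cfsg.Agent.Lib.CoprimeNilMax.Main

/-!
# Hall subgroups for small Sylow 2-subgroups (helper64)

* `hall_sub`, `solvable_of_not_four_dvd`, `exists_twelve`
* `aut`, `orderOf_aut_dvd`, `transitive_of_prime`, `seven_of_card_eight`
* `exists_twentyfour_or_seven`: a subgroup of order 24, or an automorphism of order 7 of the Sylow
  2-subgroup and `3 ∤ |N(P)|`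
-/

set_option autoImplicit false
set_option linter.unusedSectionVars false
set_option linter.style.haveILetI false

namespace Cfsg.Agent.HallOrders

open Subgroup

universe u

variable {G : Type u} [Group G] [Finite G]

theorem hall_sub {m n : ℕ} (hG : Nat.card G = m * n) (hmn : m.Coprime n) (X : Subgroup G)
    (hX : Group.IsSolvable X) (hd : m ∣ Nat.card X) : ∃ H : Subgroup G, Nat.card H = m := by
  obtain ⟨j, hj⟩ := hd
  have hm : 0 < m := by
    rcases Nat.eq_zero_or_pos m with rfl | h
    · rw [zero_mul] at hG; exact absurd hG Nat.card_pos.ne'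
    · exact h
  have hjn : j ∣ n := Nat.dvd_of_mul_dvd_mul_left hm (hj ▸ hG ▸ card_subgroup_dvd_card X)
  obtain ⟨H, hH⟩ := Solvable.exists_card_eq_of_solvable (G := X) hj (hmn.coprime_dvd_right hjn)
  exact ⟨H.map X.subtype, (card_map_of_injective X.subtype_injective).trans hH⟩

theorem hall_of_complement {m n : ℕ} (hG : Nat.card G = m * n) (hmn : m.Coprime n)
    (h : Cfsg.HasNormalPComplement 2 G) : ∃ H : Subgroup G, Nat.card H = m :=
  haveI := CoprimeNilMax.solvable_of_normal_complement h rfl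
  Solvable.exists_card_eq_of_solvable hG hmn

/-! ### Automorphisms induced by normalising elements -/

/-- The automorphism of `R` induced by an element of its normaliser. -/
def aut (R : Subgroup G) {n : G} (hn : n ∈ normalizer (R : Set G)) : MulAut R :=
  R.normalizerMonoidHom ⟨n, hn⟩

theorem aut_apply (R : Subgroup G) {n : G} (hn : n ∈ normalizer (R : Set G)) (r : R) :
    (aut R hn r : G) = n * r * n⁻¹ := rfl

theorem aut_pow (R : Subgroup G) {n : G} (hn : n ∈ normalizer (R : Set G)) (i : ℕ) :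
    aut R (pow_mem hn i) = aut R hn ^ i := by
  rw [aut, aut, ← map_pow]
  rfl

theorem mem_centralizer_of_aut_eq_one (R : Subgroup G) {n : G} (hn : n ∈ normalizer (R : Set G))
    (h : aut R hn = 1) : n ∈ centralizer (R : Set G) := by
  refine mem_centralizer_iff.2 fun r hr => ?_
  have e : n * r * n⁻¹ = r :=
    (aut_apply R hn ⟨r, hr⟩).symm.trans (by rw [h, MulAut.one_apply])
  exact ((mul_inv_eq_iff_eq_mul).1 e).symm

theorem orderOf_aut_dvd (R : Subgroup G) {n : G} (hn : n ∈ normalizer (R : Set G)) :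
    orderOf (aut R hn) ∣ orderOf n := by
  have h := orderOf_map_dvd R.normalizerMonoidHom (⟨n, hn⟩ : normalizer (R : Set G))
  rwa [Subgroup.orderOf_mk] at h

theorem orderOf_aut_dvd_card (R : Subgroup G) {n : G} (hn : n ∈ normalizer (R : Set G)) :
    orderOf (aut R hn) ∣ Nat.card (normalizer (R : Set G)) := by
  refine (orderOf_aut_dvd R hn).trans ?_
  rw [← Subgroup.orderOf_mk n hn]
  exact orderOf_dvd_natCard _

theorem orderOf_aut_dvd_relIndex (P : Subgroup G) (hP : IsMulCommutative P) {n : G}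
    (hn : n ∈ normalizer (P : Set G)) : orderOf (aut P hn) ∣ P.relIndex (normalizer (P : Set G)) := by
  have h1 : orderOf (aut P hn) ∣ Nat.card P.normalizerMonoidHom.range := by
    rw [← Subgroup.orderOf_mk (aut P hn)
      (MonoidHom.mem_range.2 ⟨_, rfl⟩ : aut P hn ∈ P.normalizerMonoidHom.range)]
    exact orderOf_dvd_natCard _
  refine h1.trans ?_
  rw [← Subgroup.index_ker, relIndex]
  refine index_dvd_of_le ?_
  rw [normalizerMonoidHom_ker]
  intro x hx
  exact mem_subgroupOf.2 (mem_centralizer_iff.2 fun y hy =>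
    congrArg Subtype.val (hP.is_comm.comm ⟨y, hy⟩ ⟨(x : G), mem_subgroupOf.1 hx⟩))

/-- Fixed points of an automorphism. -/
def fixSub {P : Type*} [Group P] (α : MulAut P) : Subgroup P :=
  MonoidHom.eqLocus α.toMonoidHom (MonoidHom.id P)

theorem mem_fixSub {P : Type*} [Group P] {α : MulAut P} {x : P} : x ∈ fixSub α ↔ α x = x := Iff.rfl

theorem card_fixSub_modEq {P : Type*} [Group P] [Finite P] {q : ℕ} [Fact q.Prime] {α : MulAut P}
    (hα : orderOf α = q) : Nat.card P ≡ Nat.card (fixSub α) [MOD q] := by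
  have hq : IsPGroup q (zpowers α) := IsPGroup.of_card (n := 1) (by rw [Nat.card_zpowers, hα, pow_one])
  refine (hq.card_modEq_card_fixedPoints P).trans ?_
  rw [Nat.card_congr (Equiv.subtypeEquivRight fun x => ?_)]
  rw [mem_fixSub]
  constructor
  · exact fun h => h ⟨α, mem_zpowers α⟩
  · rintro h ⟨β, hβ⟩
    obtain ⟨k, rfl⟩ := mem_zpowers_iff.1 hβ
    have hs : α ∈ MulAction.stabilizer (MulAut P) x := h
    exact zpow_mem hs k

/-- An automorphism of prime order `q` of a group of order `q + 1` permutes its other elements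
transitively. -/
theorem transitive_of_prime {P : Type*} [Group P] [Finite P] {q : ℕ} [Fact q.Prime] {α : MulAut P}
    (hα : orderOf α = q) (hP : Nat.card P = q + 1) {a b : P} (ha : a ≠ 1) (hb : b ≠ 1) :
    ∃ i : ℕ, (α ^ i) a = b := by
  classical
  have hfix : fixSub α = ⊥ := by
    rw [← card_eq_one]
    have h := card_fixSub_modEq hα
    rw [hP] at h
    have hle : Nat.card (fixSub α) ≤ q + 1 := hP ▸ card_le_card_group _
    have hne : Nat.card (fixSub α) ≠ q + 1 := fun e => by
      have htop := eq_top_of_card_eq _ (e.trans hP.symm)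
      have : α = 1 := MulEquiv.ext fun x => mem_fixSub.1 (htop ▸ mem_top x)
      rw [this, orderOf_one] at hα
      exact (Fact.out : q.Prime).ne_one hα.symm
    have h1 : Nat.card (fixSub α) % q = 1 := by
      rw [← (show (q + 1) % q = Nat.card (fixSub α) % q from h), Nat.add_mod_left,
        Nat.mod_eq_of_lt (Fact.out : q.Prime).one_lt]
    rcases Nat.lt_or_ge (Nat.card (fixSub α)) q with hlt | hge
    · rwa [Nat.mod_eq_of_lt hlt] at h1
    · obtain h2 : Nat.card (fixSub α) = q := by omega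
      rw [h2, Nat.mod_self] at h1
      exact absurd h1 zero_ne_one
  have hne1 : ∀ i : ℕ, (α ^ i) a ≠ 1 := fun i e => ha ((map_eq_one_iff _ (α ^ i).injective).1 e)
  let f : Fin q → {x : P // x ≠ 1} := fun i => ⟨(α ^ (i : ℕ)) a, hne1 i⟩
  have hkey : ∀ i j : Fin q, i ≤ j → f i = f j → i = j := by
    intro i j hij h
    by_contra hne
    have hd : 0 < (j : ℕ) - i ∧ (j : ℕ) - i < q :=
      ⟨Nat.sub_pos_of_lt (lt_of_le_of_ne hij fun e => hne (Fin.ext e)), by omega⟩
    have e : (α ^ ((j : ℕ) - i)) a = a := by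
      apply (α ^ (i : ℕ)).injective
      rw [← MulAut.mul_apply, ← pow_add, Nat.add_sub_cancel' hij]
      exact (congrArg Subtype.val h).symm
    have hcop : Nat.Coprime ((j : ℕ) - i) q :=
      ((Fact.out : q.Prime).coprime_iff_not_dvd.2 fun h' =>
        absurd (Nat.le_of_dvd hd.1 h') (by omega)).symm
    have hs : α ∈ MulAction.stabilizer (MulAut P) a := by
      obtain ⟨k, hk⟩ := exists_pow_eq_self_of_coprime (x := α) (show Nat.Coprime ((j : ℕ) - i) (orderOf α) by rw [hα]; exact hcop)
      rw [← hk]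
      exact pow_mem (show α ^ ((j : ℕ) - i) ∈ MulAction.stabilizer (MulAut P) a from e) k
    have hm : a ∈ fixSub α := mem_fixSub.2 hs
    rw [hfix] at hm
    exact ha (mem_bot.1 hm)
  have hinj : Function.Injective f := fun i j h =>
    (le_total i j).elim (fun h' => hkey i j h' h) (fun h' => (hkey j i h' h.symm).symm)
  have hcard : Nat.card (Fin q) = Nat.card {x : P // x ≠ 1} := by
    have h1 : Nat.card {x : P // x = 1} + Nat.card {x : P // x ≠ 1} = q + 1 :=
      Nat.card_sum.symm.trans ((Nat.card_congr (Equiv.sumCompl fun x : P => x = 1)).trans hP)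
    rw [Nat.card_unique] at h1
    rw [Nat.card_fin]
    omega
  obtain ⟨i, hi⟩ := (hinj.bijective_of_nat_card_le hcard.ge).2 ⟨b, hb⟩
  exact ⟨i, congrArg Subtype.val hi⟩

/-- Odd automorphisms of groups of order eight of order prime to 3. -/
theorem seven_of_card_eight {P : Type*} [Group P] [Finite P] (hP : Nat.card P = 8) {α : MulAut P}
    (h2 : ¬ 2 ∣ orderOf α) (h3 : ¬ 3 ∣ orderOf α) (h1 : α ≠ 1) :
    ∀ a b : P, a ≠ 1 → b ≠ 1 → ∃ i : ℕ, (α ^ i) a = b := by
  obtain ⟨q, hq, j, hj⟩ := Nat.exists_prime_and_dvd (mt orderOf_eq_one_iff.1 h1)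
  haveI := Fact.mk hq
  have hβ : orderOf (α ^ j) = q := by
    have hj0 : 0 < j := Nat.pos_of_mul_pos_left (hj ▸ orderOf_pos α)
    rw [orderOf_pow_of_dvd hj0.ne' ⟨q, by rw [hj, mul_comm]⟩, hj, Nat.mul_div_cancel _ hj0]
  have hmod := card_fixSub_modEq hβ
  rw [hP] at hmod
  have hd : Nat.card (fixSub (α ^ j)) ∣ 2 ^ 3 :=
    (card_subgroup_dvd_card _).trans (by rw [hP]; norm_num)
  obtain ⟨i, hi, he⟩ := (Nat.dvd_prime_pow Nat.prime_two).1 hd
  have hq2 : q ≠ 2 := fun e => h2 (e ▸ ⟨j, hj⟩)
  have hq3 : q ≠ 3 := fun e => h3 (e ▸ ⟨j, hj⟩)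
  have hdq : q ∣ 2 ^ 3 - 2 ^ i := by
    rw [he] at hmod
    exact (Nat.modEq_iff_dvd' (Nat.pow_le_pow_right two_pos hi)).1 hmod.symm
  have h7 : q = 7 := by
    interval_cases i <;> norm_num at hdq
    · exact (Nat.prime_dvd_prime_iff_eq hq (by norm_num)).1 hdq
    · rcases hq.dvd_mul.1 (show q ∣ 2 * 3 from hdq) with h | h
      · exact absurd ((Nat.prime_dvd_prime_iff_eq hq Nat.prime_two).1 h) hq2
      · exact absurd ((Nat.prime_dvd_prime_iff_eq hq Nat.prime_three).1 h) hq3
    · rcases hq.dvd_mul.1 (show q ∣ 2 * 2 from hdq) with h | h <;>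
        exact absurd ((Nat.prime_dvd_prime_iff_eq hq Nat.prime_two).1 h) hq2
    · exfalso
      have htop := eq_top_of_card_eq (fixSub (α ^ j)) (by rw [he, hP]; norm_num)
      have : α ^ j = 1 := MulEquiv.ext fun x => mem_fixSub.1 (htop ▸ mem_top x)
      rw [this, orderOf_one] at hβ
      exact hq.ne_one hβ.symm
  subst h7
  intro a b ha hb
  obtain ⟨k, hk⟩ := transitive_of_prime hβ hP ha hb
  exact ⟨j * k, by rw [pow_mul]; exact hk⟩

theorem eq_one_of_fix {P : Type*} [Group P] [Finite P] (hP : Nat.card P = 8) {α : MulAut P}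
    (h2 : ¬ 2 ∣ orderOf α) (h3 : ¬ 3 ∣ orderOf α) {a : P} (ha : a ≠ 1) (hfix : α a = a) : α = 1 := by
  by_contra h1
  have hall : ∀ b : P, b = a ∨ b = 1 := by
    intro b
    rcases eq_or_ne b 1 with hb | hb
    · exact Or.inr hb
    obtain ⟨i, hi⟩ := seven_of_card_eight hP h2 h3 h1 a b ha hb
    have hs : α ∈ MulAction.stabilizer (MulAut P) a := hfix
    exact Or.inl (hi.symm.trans (pow_mem hs i))
  exact h1 (MulEquiv.ext fun b => (hall b).elim (fun e => e ▸ hfix) fun e => e ▸ map_one α)

/-! ### Solvability -/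

theorem normal_sylow_solvable (P : Sylow 2 G) :
    Group.IsSolvable (normalizer ((P : Subgroup G) : Set G)) := by
  set N := normalizer ((P : Subgroup G) : Set G) with hN
  haveI : (P.subtype le_normalizer : Subgroup N).Normal := normal_in_normalizer
  haveI := (P.subtype (le_normalizer : (P : Subgroup G) ≤ N)).2.isNilpotent
  refine (Solvable.isSolvable_subgroup_quotient_iff
    (P.subtype (le_normalizer : (P : Subgroup G) ≤ N) : Subgroup N)).2 ⟨inferInstance, ?_⟩
  refine OddOrderTheorem.solvable ?_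
  rw [← index_eq_card, ← Nat.not_even_iff_odd, even_iff_two_dvd]
  exact (P.subtype le_normalizer).not_dvd_index

theorem solvable_of_not_four_dvd {X : Type*} [Group X] [Finite X] (h : ¬ 4 ∣ Nat.card X) :
    Group.IsSolvable X := by
  obtain ⟨S⟩ := (inferInstance : Nonempty (Sylow 2 X))
  obtain ⟨k, hk⟩ := S.2.exists_card_eq
  have hk1 : k ≤ 1 := by
    by_contra hc
    exact h (((pow_dvd_pow 2 (show 2 ≤ k by omega)).trans hk.symm.dvd).trans
      (card_subgroup_dvd_card _))
  refine CoprimeNilMax.solvable_of_normal_complement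
    (Transfer.hasNormalPComplement_of_normalizer_le_centralizer S fun n hn => ?_) rfl
  refine mem_centralizer_iff.2 fun r hr => ?_
  have hr' : n * r * n⁻¹ ∈ (S : Subgroup X) := (mem_normalizer_iff.1 hn r).1 hr
  rcases eq_or_ne r 1 with rfl | hr1
  · simp
  have h2 : Nat.card (S : Subgroup X) ≤ 2 := by
    rw [hk]; exact (Nat.pow_le_pow_right two_pos hk1).trans (by norm_num)
  have e : n * r * n⁻¹ = r := by
    by_contra hne
    have := Nat.card_le_card_of_injective
      (fun x : Fin 3 => (![(1 : (S : Subgroup X)), ⟨r, hr⟩, ⟨_, hr'⟩] x)) (by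
        intro x y hxy
        have h1 : n * r * n⁻¹ ≠ 1 := fun e => hr1 (conj_eq_one_iff.1 e)
        have hs := congrArg Subtype.val hxy
        fin_cases x <;> fin_cases y <;> first
          | rfl
          | (simp at hs; first
              | exact absurd hs hr1
              | exact absurd hs.symm hr1
              | exact absurd hs h1
              | exact absurd hs.symm h1
              | exact absurd hs hne
              | exact absurd hs.symm hne))
    rw [Nat.card_fin] at this
    omega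
  exact ((mul_inv_eq_iff_eq_mul).1 e).symm

theorem solvable_of_mulEquiv {A : Type*} {B : Type*} [Group A] [Group B] (e : A ≃* B)
    (h : Group.IsSolvable A) : Group.IsSolvable B :=
  Group.isSolvable_of_surjective (f := e.toMonoidHom) e.surjective

theorem card_mulAut_dvd {R : Subgroup G} (hR : Nat.card R = 4) : Nat.card (MulAut R) ∣ 6 := by
  classical
  let f : MulAut R →* Equiv.Perm {x : R // x ≠ 1} :=
    { toFun := fun α => α.toEquiv.subtypeEquiv fun x => (map_ne_one_iff α α.injective).symm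
      map_one' := rfl
      map_mul' := fun _ _ => rfl }
  have hf : Function.Injective f := fun α β h => MulEquiv.ext fun x => by
    by_cases hx : x = 1
    · rw [hx, map_one, map_one]
    · exact congrArg Subtype.val (Equiv.congr_fun h ⟨x, hx⟩)
  have h1 : Nat.card {x : R // x = 1} + Nat.card {x : R // x ≠ 1} = 4 :=
    Nat.card_sum.symm.trans ((Nat.card_congr (Equiv.sumCompl fun x : R => x = 1)).trans hR)
  rw [Nat.card_unique] at h1
  have h3 : Nat.card {x : R // x ≠ 1} = 3 := by omega
  have := card_dvd_of_injective f hf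
  rwa [Nat.card_perm, h3] at this

theorem normalizer_solvable_of_four {k : ℕ} (hG : Nat.card G = 8 * k) (hk : ¬ 2 ∣ k) (R : Subgroup G)
    (hR : Nat.card R = 4) : Group.IsSolvable (normalizer (R : Set G)) := by
  haveI : Fact (Nat.Prime 2) := ⟨Nat.prime_two⟩
  set C := centralizer (R : Set G) with hC
  have hRc : IsMulCommutative R := IsPGroup.isMulCommutative_of_card_eq_prime_sq
    (show Nat.card R = 2 ^ 2 by rw [hR]; norm_num)
  have hRC : R ≤ C := fun r hr => mem_centralizer_iff.2 fun y hy =>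
    congrArg Subtype.val (hRc.is_comm.comm ⟨y, hy⟩ ⟨r, hr⟩)
  haveI : (R.subgroupOf C).Normal := ⟨fun x hx c => by
    rw [mem_subgroupOf] at hx ⊢
    rw [coe_mul, coe_mul, coe_inv,
      ← mem_centralizer_iff.1 c.2 (x : G) hx, mul_inv_cancel_right]
    exact hx⟩
  have hCs : Group.IsSolvable C := by
    refine (Solvable.isSolvable_subgroup_quotient_iff (R.subgroupOf C)).2
      ⟨solvable_of_mulEquiv (subgroupOfEquivOfLe hRC).symm ?_, solvable_of_not_four_dvd fun h => ?_⟩
    · exact Group.isSolvable_of_comm fun a b => hRc.is_comm.comm a b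
    · have e : Nat.card C = Nat.card (C ⧸ R.subgroupOf C) * 4 := by
        rw [← hR, ← Nat.card_congr (subgroupOfEquivOfLe hRC).toEquiv]
        exact card_eq_card_quotient_mul_card_subgroup _
      have h16 : 2 * 8 ∣ 8 * k := hG ▸ (Nat.mul_dvd_mul_right h 4).trans
        (e ▸ card_subgroup_dvd_card C)
      exact hk (Nat.dvd_of_mul_dvd_mul_right (by norm_num : 0 < 8) (by rwa [mul_comm k 8]))
  set φ := R.normalizerMonoidHom with hφ
  refine (Solvable.isSolvable_subgroup_quotient_iff φ.ker).2 ⟨?_, ?_⟩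
  · rw [hφ, normalizerMonoidHom_ker]
    exact solvable_of_mulEquiv (subgroupOfEquivOfLe (centralizer_le_normalizer _)).symm hCs
  · refine solvable_of_mulEquiv (QuotientGroup.quotientKerEquivRange φ).symm
      (solvable_of_not_four_dvd fun h => ?_)
    have h6 := (h.trans (card_subgroup_dvd_card φ.range)).trans (card_mulAut_dvd hR)
    norm_num at h6

theorem orderOf_four_dvd {R : Subgroup G} (hR : Nat.card R = 4) (α : MulAut R) : orderOf α ∣ 6 :=
  (orderOf_dvd_natCard α).trans (card_mulAut_dvd hR)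

/-! ### The orders 12 and 24 -/

theorem exists_twelve {k : ℕ} (hG : Nat.card G = 12 * k) (hk : Nat.Coprime 12 k) :
    ∃ H : Subgroup G, Nat.card H = 12 := by
  haveI : Fact (Nat.Prime 2) := ⟨Nat.prime_two⟩
  obtain ⟨P⟩ := (inferInstance : Nonempty (Sylow 2 G))
  have hk2 : ¬ 2 ∣ 3 * k := fun h => by
    rcases Nat.prime_two.dvd_mul.1 h with h | h
    · norm_num at h
    · exact Nat.not_coprime_of_dvd_of_dvd one_lt_two (by norm_num) h hk
  have hP : Nat.card (P : Subgroup G) = 4 := by
    rw [Sylow.card_eq_multiplicity, hG, show 12 * k = 2 ^ 2 * (3 * k) by ring,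
      Nat.factorization_mul (by norm_num) (show 3 * k ≠ 0 from fun h => hk2 (by rw [h]; exact dvd_zero 2)), Finsupp.add_apply,
      Nat.Prime.factorization_pow Nat.prime_two, Finsupp.single_eq_same,
      Nat.factorization_eq_zero_of_not_dvd hk2]
    norm_num
  set N := normalizer ((P : Subgroup G) : Set G)
  by_cases h3 : 3 ∣ Nat.card N
  · exact hall_sub hG hk N (normal_sylow_solvable P) (Nat.Coprime.mul_dvd_of_dvd_of_dvd
      (by norm_num : Nat.Coprime 4 3) (hP ▸ card_dvd_of_le le_normalizer) h3)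
  refine hall_of_complement hG hk (Transfer.hasNormalPComplement_of_normalizer_le_centralizer P ?_)
  intro n hn
  refine mem_centralizer_of_aut_eq_one _ hn (orderOf_eq_one_iff.1 (Nat.dvd_one.1 ?_))
  have hab : IsMulCommutative (P : Subgroup G) := IsPGroup.isMulCommutative_of_card_eq_prime_sq
    (show Nat.card (P : Subgroup G) = 2 ^ 2 by rw [hP]; norm_num)
  have hd := orderOf_aut_dvd_relIndex _ hab hn
  have h2 : ¬ 2 ∣ (P : Subgroup G).relIndex N := (P.subtype le_normalizer).not_dvd_index
  have h3' : ¬ 3 ∣ (P : Subgroup G).relIndex N :=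
    fun h => h3 (h.trans (index_dvd_card _))
  have hc : Nat.Coprime ((P : Subgroup G).relIndex N) (2 * 3) :=
    ((Nat.prime_two.coprime_iff_not_dvd.2 h2).symm).mul_right
      (Nat.prime_three.coprime_iff_not_dvd.2 h3').symm
  rw [← hc.gcd_eq_one]
  exact Nat.dvd_gcd hd (orderOf_four_dvd hP _)

/-- A subgroup of order 24, unless an element of order 7 acts on the Sylow 2-subgroup. -/
theorem exists_twentyfour_or_seven {k : ℕ} (hG : Nat.card G = 24 * k) (hk : Nat.Coprime 24 k)
    (P : Sylow 2 G) (hP : Nat.card (P : Subgroup G) = 8) :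
    (∃ H : Subgroup G, Nat.card H = 24) ∨
      (¬ 3 ∣ Nat.card (normalizer ((P : Subgroup G) : Set G)) ∧
        ∀ a ∈ (P : Subgroup G), ∀ b ∈ (P : Subgroup G), a ≠ 1 → b ≠ 1 →
          ∃ n ∈ normalizer ((P : Subgroup G) : Set G), n * a * n⁻¹ = b) := by
  haveI : Fact (Nat.Prime 2) := ⟨Nat.prime_two⟩
  by_contra hcon
  push Not at hcon
  obtain ⟨hno, h7⟩ := hcon
  have hk2 : ¬ 2 ∣ 3 * k := fun h => by
    rcases Nat.prime_two.dvd_mul.1 h with h | h
    · norm_num at h
    · exact Nat.not_coprime_of_dvd_of_dvd one_lt_two (by norm_num) h hk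
  have h3N : ∀ X : Subgroup G, Group.IsSolvable X → 8 ∣ Nat.card X → ¬ 3 ∣ Nat.card X :=
    fun X hX h8 h3 => by
      obtain ⟨H, hH⟩ := hall_sub hG hk X hX
        (Nat.Coprime.mul_dvd_of_dvd_of_dvd (by norm_num : Nat.Coprime 8 3) h8 h3)
      exact hno H hH
  have hN3 := h3N _ (normal_sylow_solvable P) (hP ▸ card_dvd_of_le le_normalizer)
  obtain ⟨a, ha, b, hb, ha1, hb1, hab⟩ := h7 hN3
  suffices h : Cfsg.HasNormalPComplement 2 G by
    obtain ⟨H, hH⟩ := hall_of_complement hG hk h
    exact hno H hH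
  refine Transfer.hasNormalPComplement_of_local P fun R hR hb' n hn hco => ?_
  refine mem_centralizer_of_aut_eq_one _ hn ?_
  have hodd : ¬ 2 ∣ orderOf (aut R hn) := fun h =>
    Nat.not_coprime_of_dvd_of_dvd one_lt_two (h.trans (orderOf_aut_dvd R hn)) dvd_rfl hco
  obtain ⟨i, hi⟩ := (P.2.to_le hR.1).exists_card_eq
  have hi3 : i ≤ 3 := by
    have h := card_dvd_of_le hR.1
    rw [hi, hP, show 8 = 2 ^ 3 by norm_num] at h
    exact (Nat.pow_dvd_pow_iff_le_right one_lt_two).1 h
  interval_cases i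
  · exact absurd (card_eq_one.1 (by rw [hi, pow_zero])) hb'
  · obtain ⟨-, hu⟩ := Nat.card_eq_two_iff' (1 : R) |>.1 (by rw [hi, pow_one])
    refine MulEquiv.ext fun r => ?_
    rcases eq_or_ne r 1 with rfl | hr1
    · rw [map_one, map_one]
    · exact ExistsUnique.unique (Nat.card_eq_two_iff' (1 : R) |>.1 (by rw [hi, pow_one]))
        ((map_ne_one_iff _ (aut R hn).injective).2 hr1) hr1
  · have hR4 : Nat.card R = 4 := by rw [hi]; norm_num
    have hPN : (P : Subgroup G) ≤ normalizer (R : Set G) := by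
      haveI : (R.subgroupOf (P : Subgroup G)).Normal := normal_of_index_eq_two (by
        have h := (R.subgroupOf (P : Subgroup G)).card_mul_index
        rw [Nat.card_congr (subgroupOfEquivOfLe hR.1).toEquiv, hR4, hP] at h
        omega)
      exact normal_subgroupOf_iff_le_normalizer hR.1 |>.1 inferInstance
    have hs := normalizer_solvable_of_four (k := 3 * k) (by rw [hG]; ring) hk2 R hR4
    have hn3 := h3N _ hs (hP ▸ card_dvd_of_le hPN)
    refine orderOf_eq_one_iff.1 (Nat.dvd_one.1 ?_)
    have hc : Nat.Coprime (orderOf (aut R hn)) (2 * 3) :=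
      ((Nat.prime_two.coprime_iff_not_dvd.2 hodd).symm).mul_right
        (Nat.prime_three.coprime_iff_not_dvd.2
          fun h => hn3 (h.trans (orderOf_aut_dvd_card R hn))).symm
    rw [← hc.gcd_eq_one]
    exact Nat.dvd_gcd dvd_rfl (orderOf_four_dvd hR4 _)
  · obtain rfl : R = (P : Subgroup G) := eq_of_le_of_card_ge hR.1 (by rw [hi, hP]; norm_num)
    by_contra hne
    obtain ⟨j, hj⟩ := seven_of_card_eight hP hodd
      (fun h => hN3 (h.trans (orderOf_aut_dvd_card _ hn))) hne ⟨a, ha⟩ ⟨b, hb⟩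
      (fun e => ha1 (congrArg Subtype.val e)) (fun e => hb1 (congrArg Subtype.val e))
    refine hab (n ^ j) (pow_mem hn j) ?_
    rw [← aut_apply (P : Subgroup G) (pow_mem hn j) ⟨a, ha⟩, aut_pow (P : Subgroup G) hn, hj]

end Cfsg.Agent.HallOrders
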