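import Cfsg.Agent.EqLemmas

/-!
# Primes `r` with prescribed exact divisors of `r - 1` and `r + 1` (helper64)

* `exists_prime_split`: for coprime `u, v` there is a large prime `r` with `r - 1 = u A`, `r + 1 = v B`,
  `A` prime to `u` and `B` prime to `v`.
* `exists_factor`: a number not a prime power, not twice odd, is such a product `u v`.
-/

set_option autoImplicit false

namespace Cfsg.Agent.HallOrders

theorem exists_prime_split {u v : ℕ} (hu : 2 ≤ u) (hv : 2 ≤ v) (huv : u.Coprime v) (n : ℕ) :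
    ∃ r A B : ℕ, r.Prime ∧ n < r ∧ r - 1 = u * A ∧ r + 1 = v * B ∧ A.Coprime u ∧ B.Coprime v := by
  obtain ⟨x, hxu, hxv⟩ := Nat.chineseRemainder (huv.pow 2 2) (1 + u) (v - 1)
  have : NeZero (u ^ 2 * v ^ 2) := ⟨by positivity⟩
  have hcu : Nat.Coprime x u := by
    have h1 : x % u = (1 + u) % u := (hxu.of_dvd (dvd_pow_self u two_ne_zero) :)
    rw [Nat.Coprime, Nat.gcd_comm, Nat.gcd_rec u x, h1]
    simp [Nat.one_mod_eq_one.2 (show u ≠ 1 by omega)]
  have hcv : Nat.Coprime x v := by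
    have h1 : x % v = (v - 1) % v := (hxv.of_dvd (dvd_pow_self v two_ne_zero) :)
    rw [Nat.Coprime, Nat.gcd_comm, Nat.gcd_rec v x, h1, Nat.mod_eq_of_lt (by omega)]
    exact Nat.Coprime.symm ((Nat.coprime_self_sub_right (by omega)).2 (Nat.coprime_one_right v))
  have hunit : IsUnit (x : ZMod (u ^ 2 * v ^ 2)) :=
    (ZMod.isUnit_iff_coprime x _).2 ((hcu.pow_right 2).mul_right (hcv.pow_right 2))
  obtain ⟨r, hr, hrp, hre⟩ := Nat.forall_exists_prime_gt_and_eq_mod hunit n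
  have hmod : r ≡ x [MOD u ^ 2 * v ^ 2] := (ZMod.natCast_eq_natCast_iff _ _ _).1 hre
  have h1 : r % u ^ 2 = 1 + u := by
    rw [(hmod.of_mul_right _).trans hxu]
    exact Nat.mod_eq_of_lt (by nlinarith)
  have h2 : r % v ^ 2 = v - 1 := by
    rw [(hmod.of_mul_left _).trans hxv]
    refine Nat.mod_eq_of_lt ?_
    have := Nat.le_self_pow two_ne_zero v
    omega
  refine ⟨r, 1 + u * (r / u ^ 2), 1 + v * (r / v ^ 2), hrp, hr, ?_, ?_, ?_, ?_⟩
  · have e := Nat.mod_add_div r (u ^ 2)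
    rw [h1] at e
    rw [show u * (1 + u * (r / u ^ 2)) = u + u ^ 2 * (r / u ^ 2) by ring]
    omega
  · have e := Nat.mod_add_div r (v ^ 2)
    rw [h2] at e
    rw [show v * (1 + v * (r / v ^ 2)) = v + v ^ 2 * (r / v ^ 2) by ring]
    omega
  · exact (Nat.coprime_add_mul_left_left 1 u _).2 (Nat.coprime_one_left u)
  · exact (Nat.coprime_add_mul_left_left 1 v _).2 (Nat.coprime_one_left v)

/-- Splitting off a prime part. -/
theorem exists_factor {m : ℕ} (hm : 2 ≤ m) (hpp : ¬ IsPrimePow m) (h4 : m % 4 ≠ 2) :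
    ∃ u v : ℕ, m = u * v ∧ u.Coprime v ∧ 3 ≤ u ∧ 3 ≤ v ∧ Odd v ∧ (Even u → 4 ∣ u) := by
  obtain ⟨p, hp, hpm, hp2⟩ : ∃ p, p.Prime ∧ p ∣ m ∧ (2 ∣ m → p = 2) := by
    by_cases h : 2 ∣ m
    · exact ⟨2, Nat.prime_two, h, fun _ => rfl⟩
    · exact ⟨m.minFac, Nat.minFac_prime (by omega), Nat.minFac_dvd m, fun h' => absurd h' h⟩
  obtain ⟨k, v, hpv, rfl⟩ := Nat.exists_eq_pow_mul_and_not_dvd (show m ≠ 0 by omega) p hp.ne_one
  have hk : 1 ≤ k := by
    rcases Nat.eq_zero_or_pos k with rfl | hk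
    · rw [pow_zero, one_mul] at hpm
      exact absurd hpm hpv
    · exact hk
  have hvodd : Odd v := by
    rw [← Nat.not_even_iff_odd]
    intro hv
    obtain rfl := hp2 ((even_iff_two_dvd.1 hv).mul_left _)
    exact hpv (even_iff_two_dvd.1 hv)
  have hv : 3 ≤ v := by
    obtain ⟨j, rfl⟩ := hvodd
    rcases Nat.eq_zero_or_pos j with rfl | hj
    · exact absurd (by rw [mul_zero, zero_add, mul_one]; exact hp.isPrimePow.pow (by omega)) hpp
    · omega
  have hfour : Even (p ^ k) → 4 ∣ p ^ k := by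
    intro he
    obtain rfl : p = 2 := hp2 ((even_iff_two_dvd.1 he).mul_right _)
    rcases Nat.lt_or_ge k 2 with h | h
    · exfalso
      obtain rfl : k = 1 := by omega
      obtain ⟨j, rfl⟩ := hvodd
      rw [pow_one] at h4
      omega
    · exact (pow_dvd_pow 2 h)
  refine ⟨p ^ k, v, rfl, ((hp.coprime_iff_not_dvd).2 hpv).pow_left k, ?_, hv, hvodd, hfour⟩
  have h2k : p ≤ p ^ k := Nat.le_self_pow (by omega) p
  rcases Nat.even_or_odd (p ^ k) with he | ho
  · have := Nat.le_of_dvd (pow_pos hp.pos k) (hfour he); omega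
  · obtain ⟨j, hj⟩ := ho
    have := hp.two_le
    omega

/-- The index left over. -/
theorem coprime_rest {r u v A B : ℕ} (hr : r.Prime) (hru : u * v < r) (hu : 3 ≤ u) (hv : 3 ≤ v)
    (hvo : Odd v) (hu4 : Even u → 4 ∣ u) (hA : r - 1 = u * A) (hB : r + 1 = v * B)
    (hAu : A.Coprime u) (hBv : B.Coprime v) :
    Even B ∧ (u * v).Coprime (r * A * (B / 2)) := by
  have hrodd : Odd r := hr.odd_of_ne_two (by nlinarith)
  have hBe : Even B := by
    have h : Even (v * B) := by rw [← hB]; exact hrodd.add_odd odd_one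
    rcases Nat.even_mul.1 h with h | h
    · exact absurd h (Nat.not_even_iff_odd.2 hvo)
    · exact h
  refine ⟨hBe, ?_⟩
  obtain ⟨b, rfl⟩ := hBe
  rw [show (b + b) / 2 = b by omega]
  have hcr : ∀ w : ℕ, 0 < w → w < r → w.Coprime r := fun w h0 hw =>
    (hr.coprime_iff_not_dvd.2 fun h => absurd (Nat.le_of_dvd h0 h) (by omega)).symm
  have h2 : ∀ d : ℕ, d ∣ r - 1 → d ∣ r + 1 → d ∣ 2 := fun d h1 h3 => by
    have := Nat.dvd_sub h3 h1
    rwa [show r + 1 - (r - 1) = 2 by have := hr.two_le; omega] at this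
  have hub : u.Coprime b := by
    refine Nat.coprime_of_dvd fun d hd hdu hdb => ?_
    obtain rfl := (Nat.prime_dvd_prime_iff_eq hd Nat.prime_two).1 (h2 d (hA ▸ hdu.mul_right A)
      (hB ▸ (hdb.trans ⟨2, by ring⟩).mul_left v))
    have h4 : 4 ∣ r - 1 := hA ▸ (hu4 (even_iff_two_dvd.2 hdu)).mul_right A
    have h4' : 4 ∣ r + 1 := by
      rw [hB]
      obtain ⟨c, rfl⟩ := hdb
      exact ⟨v * c, by ring⟩
    have := Nat.le_of_dvd two_pos (h2 4 h4 h4')
    omega
  have hvA : v.Coprime A := by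
    refine Nat.coprime_of_dvd fun d hd hdv hdA => ?_
    obtain rfl := (Nat.prime_dvd_prime_iff_eq hd Nat.prime_two).1 (h2 d (hA ▸ hdA.mul_left u)
      (hB ▸ hdv.mul_right _))
    exact Nat.not_even_iff_odd.2 hvo (even_iff_two_dvd.2 hdv)
  have hvb : v.Coprime b := (hBv.coprime_dvd_left ⟨2, by ring⟩).symm
  refine Nat.Coprime.mul_left ?_ ?_
  · exact ((hcr u (by omega) (by nlinarith)).mul_right hAu.symm).mul_right hub
  · exact ((hcr v (by omega) (by nlinarith)).mul_right hvA).mul_right hvb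

end Cfsg.Agent.HallOrders
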