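import Cfsg.Agent.S0799
import Cfsg.Agent.Lib.PSL2.Existence
import Cfsg.Agent.Lib.PSL2.Overgroups
import Cfsg.Agent.Lib.HallOrders.Arith

/-!
# Orders without a Hall subgroup (helper64)

* `exists_counterexample`: if `m` is neither a prime power, nor twice odd, nor 12, 24, 60, some
  `PSL(2, r)` has order exactly divisible by `m` and no subgroup of order `m`.
-/

set_option autoImplicit false

namespace Cfsg.Agent.HallOrders

open Matrix

theorem no_subgroup {r : ℕ} [Fact r.Prime] (hr5 : 5 ≤ r) {m : ℕ} (hm : 0 < m) (hmr : m < r)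
    (h12 : m ≠ 12) (h24 : m ≠ 24) (h60 : m ≠ 60) (h1 : ¬ m ∣ r - 1) (h2 : ¬ m ∣ r + 1)
    (H : Subgroup (PSL2.PSL2 (ZMod r))) : Nat.card H ≠ m := by
  intro hH
  have hodd : Odd r := (Fact.out : r.Prime).odd_of_ne_two (by omega)
  have hq : Nat.card (ZMod r) = r := Nat.card_zmod r
  have hg : Nat.gcd 2 (r - 1) = 2 := Nat.gcd_eq_left (by obtain ⟨j, hj⟩ := hodd; omega)
  have hcop : Nat.Coprime m r :=
    ((Fact.out : r.Prime).coprime_iff_not_dvd.2 fun h => absurd (Nat.le_of_dvd hm h) (by omega)).symm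
  have h20 : 2 * ((r + 1) / 2) = r + 1 := by obtain ⟨j, hj⟩ := hodd; omega
  have h21 : 2 * ((r - 1) / 2) = r - 1 := by obtain ⟨j, hj⟩ := hodd; omega
  have hcard : ∀ (K : Type) [Field K] [Fintype K] (j : ℕ), Fintype.card K ^ j = r →
      Fintype.card K = r := fun K _ _ j hj => by
    rcases (Nat.dvd_prime Fact.out).1 ((dvd_pow_self (Fintype.card K) (show j ≠ 0 by
      rintro rfl; rw [pow_zero] at hj; omega)).trans hj.dvd) with h | h
    · exact absurd h Fintype.one_lt_card.ne'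
    · exact h
  rcases S0799.result (F := ZMod r) (q := r) (ZMod.card r) r H with
    ⟨k, hk, hk'⟩ | ⟨P, K, hK, ⟨e⟩⟩ | ⟨⟨e⟩⟩ | ⟨⟨e⟩⟩ | ⟨⟨e⟩⟩ | ⟨K, _, _, j, hj, he⟩
  · rw [hg] at hk
    have hk2 : 2 * k ∣ r + 1 ∨ 2 * k ∣ r - 1 :=
      hk.imp (fun h => h20 ▸ mul_dvd_mul_left 2 h) (fun h => h21 ▸ mul_dvd_mul_left 2 h)
    have hmk : m ∣ 2 * k := by
      rcases hk' with ⟨-, h⟩ | ⟨⟨e⟩⟩
      · exact ⟨2, by rw [← hH, h, mul_comm]⟩
      · rw [← hH, Nat.card_congr e.toEquiv, DihedralGroup.nat_card]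
    exact hk2.elim (fun h => h2 (hmk.trans h)) (fun h => h1 (hmk.trans h))
  · obtain ⟨x, hx⟩ := PSL2.normalizer_sylow_le r P
    have hd : m ∣ Nat.card (MulAction.stabilizer (PSL2.PSL2 (ZMod r)) x) := by
      rw [← hH, Nat.card_congr e.toEquiv]
      exact Subgroup.card_dvd_of_le (hK.trans hx)
    have hb := PSL2.card_borel_mul x
    rw [hq, hg] at hb
    exact h1 (hcop.dvd_of_dvd_mul_left ((hd.mul_left 2).trans hb.dvd))
  · exact h12 (by rw [← hH, Nat.card_congr e.toEquiv, nat_card_alternatingGroup, Nat.card_fin]; rfl)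
  · exact h24 (by rw [← hH, Nat.card_congr e.toEquiv, Nat.card_perm, Nat.card_fin]; rfl)
  · exact h60 (by rw [← hH, Nat.card_congr e.toEquiv, nat_card_alternatingGroup, Nat.card_fin]; rfl)
  · have hK : Nat.card K = r := by rw [Nat.card_eq_fintype_card]; exact hcard K j hj
    have hrd : r ∣ Nat.card H := by
      rcases he with ⟨⟨e⟩⟩ | ⟨⟨e⟩⟩
      · obtain ⟨x, -, -, hx, -⟩ := @PSL2.card_psl_split K _ _ r _ (by
          obtain ⟨q, hq'⟩ := CharP.exists K
          haveI : Fact q.Prime := ⟨CharP.char_is_prime K q⟩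
          obtain ⟨n, hn, hc⟩ := GLOrder.exists_card_eq_pow (F := K) q
          rw [hK] at hc
          rcases (Nat.dvd_prime Fact.out).1 (hc ▸ dvd_pow_self q hn.ne') with h | h
          · exact absurd h (Fact.out : q.Prime).ne_one
          · exact h ▸ hq')
        rw [Nat.card_congr e.toEquiv, hx, hK]
        exact dvd_mul_right _ _
      · have h := PSL2.card_pgl_eq (F := K)
        rw [Nat.card_congr e.toEquiv]
        exact (dvd_mul_right r _).trans (h.trans (by rw [hK])).symm.dvd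
    have := Nat.le_of_dvd hm (hH ▸ hrd)
    omega

theorem exists_counterexample {m : ℕ} (hm : 2 ≤ m) (hpp : ¬ IsPrimePow m) (h4 : m % 4 ≠ 2)
    (h12 : m ≠ 12) (h24 : m ≠ 24) (h60 : m ≠ 60) :
    ∃ (G : Type) (_ : Group G) (_ : Finite G), m ∣ Nat.card G ∧
      m.Coprime (Nat.card G / m) ∧ ∀ H : Subgroup G, Nat.card H ≠ m := by
  obtain ⟨u, v, rfl, huv, hu, hv, hvo, hu4⟩ := exists_factor hm hpp h4
  obtain ⟨r, A, B, hr, hrn, hA, hB, hAu, hBv⟩ :=
    exists_prime_split (by omega : 2 ≤ u) (by omega : 2 ≤ v) huv (max (u * v) 5)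
  haveI := Fact.mk hr
  have hr5 : 5 ≤ r := by omega
  obtain ⟨⟨b, rfl⟩, hcop⟩ := coprime_rest hr (by omega) hu hv hvo hu4 hA hB hAu hBv
  rw [show (b + b) / 2 = b by omega] at hcop
  have hcard : Nat.card (PSL2.PSL2 (ZMod r)) = u * v * (r * A * b) := by
    have h := PSL2.card_psl_mul (F := ZMod r)
    rw [Nat.card_zmod, Nat.gcd_eq_left (show 2 ∣ r - 1 by
      obtain ⟨j, hj⟩ := hr.odd_of_ne_two (by omega); omega), hA, hB] at h
    exact Nat.eq_of_mul_eq_mul_left two_pos (h.trans (by ring))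
  refine ⟨PSL2.PSL2 (ZMod r), inferInstance, inferInstance, ⟨_, hcard⟩, ?_, fun H =>
    no_subgroup hr5 (by omega) (by omega) h12 h24 h60 (fun h => ?_) (fun h => ?_) H⟩
  · rw [hcard, Nat.mul_div_cancel_left _ (by omega)]
    exact hcop
  · have h3 := Nat.dvd_sub (hB ▸ dvd_mul_right v (b + b)) ((dvd_mul_left v u).trans h)
    have := Nat.le_of_dvd two_pos (show v ∣ 2 by rwa [show r + 1 - (r - 1) = 2 by omega] at h3)
    omega
  · have h3 := Nat.dvd_sub ((dvd_mul_right u v).trans h) (hA ▸ dvd_mul_right u A)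
    have := Nat.le_of_dvd two_pos (show u ∣ 2 by rwa [show r + 1 - (r - 1) = 2 by omega] at h3)
    omega

end Cfsg.Agent.HallOrders
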