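import Cfsg.Agent.Lib.HallOrders.Basic
import Cfsg.Agent.Lib.Signalizer.Core
import Cfsg.Agent.Lib.Signalizer.SSFT.Main
import Cfsg.Agent.Lib.Signalizer.PAction
import Cfsg.Agent.Lib.Coprime.Invariant
import Cfsg.Agent.Lib.Involution.StronglyEmbedded
import Cfsg.Agent.Lib.Bender.CoreInCore
import Cfsg.Agent.Lib.Bender.RankOneHalf
import Cfsg.Agent.Lib.PSL2.Existence
import Cfsg.Agent.S1230

/-!
# Hall subgroups of order 24 (helper64)

The case of an element of order 7 acting on the Sylow 2-subgroup of order 8: signalizer functor,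
strongly embedded subgroup, and `PSL(2,8)`.

* `exists_twentyfour`
-/

set_option autoImplicit false
set_option linter.unusedSectionVars false
set_option linter.style.haveILetI false

namespace Cfsg.Agent.HallOrders

open Subgroup

universe u

variable {G : Type u} [Group G]

theorem map_centralizer_core (p : ℕ) (g y : G) :
    (Cfsg.centralizerPPrimeCore p y).map (MulAut.conj g).toMonoidHom =
      Cfsg.centralizerPPrimeCore p (g * y * g⁻¹) := by
  have heq : (centralizer ({y} : Set G)).map (MulAut.conj g).toMonoidHom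
      = centralizer ({g * y * g⁻¹} : Set G) := by
    ext a
    simp only [mem_map, mem_centralizer_singleton_iff]
    constructor
    · rintro ⟨b, hb, rfl⟩
      have h := congrArg (MulAut.conj g) hb
      simpa [mul_assoc] using h
    · intro ha
      refine ⟨g⁻¹ * a * g, ?_, by simp [mul_assoc]⟩
      have h := congrArg (MulAut.conj g⁻¹) ha
      simpa [mul_assoc] using h
  let e := ((MulAut.conj g).subgroupMap (centralizer ({y} : Set G))).trans
    (MulEquiv.subgroupCongr heq)
  unfold Cfsg.centralizerPPrimeCore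
  rw [← Cfsg.Agent.Cores.pPrimeCore_map_mulEquiv e, Subgroup.map_map, Subgroup.map_map]
  rfl

theorem normalizer_le_normalizer_iSup (A : Subgroup G) :
    normalizer (A : Set G) ≤ normalizer ((⨆ a : {a : G // a ∈ A ∧ a ≠ 1},
      Cfsg.centralizerPPrimeCore 2 (a : G) : Subgroup G) : Set G) := by
  set W : Subgroup G := ⨆ a : {a : G // a ∈ A ∧ a ≠ 1}, Cfsg.centralizerPPrimeCore 2 (a : G)
    with hW
  have key : ∀ g ∈ normalizer (A : Set G), ∀ s ∈ W, g * s * g⁻¹ ∈ W := by
    intro g hg s hs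
    have hle : W.map (MulAut.conj g).toMonoidHom ≤ W := by
      rw [map_le_iff_le_comap, hW]
      refine iSup_le fun y => map_le_iff_le_comap.1 ?_
      rw [map_centralizer_core]
      exact le_iSup (fun y : {y : G // y ∈ A ∧ y ≠ 1} => Cfsg.centralizerPPrimeCore 2 (y : G))
        ⟨g * y * g⁻¹, (mem_normalizer_iff.1 hg _).1 y.2.1, fun h => y.2.2 (conj_eq_one_iff.1 h)⟩
    exact hle ⟨s, hs, rfl⟩
  intro g hg
  refine mem_normalizer_iff.2 fun s => ⟨key g hg s, fun hs => ?_⟩
  simpa [mul_assoc] using key g⁻¹ (inv_mem hg) _ hs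

theorem orderOf_dvd_of_mem {X : Subgroup G} {a : G} (ha : a ∈ X) : orderOf a ∣ Nat.card X := by
  rw [← Subgroup.orderOf_mk a ha]
  exact orderOf_dvd_natCard _

variable [Finite G]

/-- The situation left open by `exists_twentyfour_or_seven`, with no subgroup of order 24. -/
structure Seven (P : Sylow 2 G) (k : ℕ) : Prop where
  card_eq : Nat.card G = 24 * k
  coprime : Nat.Coprime 24 k
  card_sylow : Nat.card (P : Subgroup G) = 8
  not_three : ¬ 3 ∣ Nat.card (normalizer ((P : Subgroup G) : Set G))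
  trans : ∀ a ∈ (P : Subgroup G), ∀ b ∈ (P : Subgroup G), a ≠ 1 → b ≠ 1 →
    ∃ n ∈ normalizer ((P : Subgroup G) : Set G), n * a * n⁻¹ = b
  no_hall : ∀ H : Subgroup G, Nat.card H ≠ 24

namespace Seven

variable {P : Sylow 2 G} {k : ℕ} (S : Seven P k)
include S

theorem not_three_of_solvable {X : Subgroup G} (hX : Group.IsSolvable X) (h8 : 8 ∣ Nat.card X) :
    ¬ 3 ∣ Nat.card X := fun h3 => by
  obtain ⟨H, hH⟩ := hall_sub S.card_eq S.coprime X hX
    (Nat.Coprime.mul_dvd_of_dvd_of_dvd (by norm_num : Nat.Coprime 8 3) h8 h3)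
  exact S.no_hall H hH

theorem isElementary : Cfsg.IsElementaryAbelian 2 (P : Subgroup G) := by
  haveI : Fact (Nat.Prime 2) := ⟨Nat.prime_two⟩
  obtain ⟨⟨a, ha⟩, hord⟩ := exists_prime_orderOf_dvd_card' (G := (P : Subgroup G)) 2
    (by rw [S.card_sylow]; norm_num)
  rw [Subgroup.orderOf_mk] at hord
  have ha1 : a ≠ 1 := fun e => by rw [e, orderOf_one] at hord; norm_num at hord
  have hsq : ∀ b ∈ (P : Subgroup G), b ^ 2 = 1 := by
    intro b hb
    rcases eq_or_ne b 1 with rfl | hb1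
    · exact one_pow 2
    obtain ⟨n, -, rfl⟩ := S.trans a ha b hb ha1 hb1
    rw [conj_pow, ← hord, pow_orderOf_eq_one, mul_one, mul_inv_cancel]
  refine ⟨⟨⟨fun x y => Subtype.ext ?_⟩⟩, hsq⟩
  have hinv : ∀ z ∈ (P : Subgroup G), z⁻¹ = z := fun z hz =>
    inv_eq_of_mul_eq_one_left (by rw [← pow_two]; exact hsq z hz)
  have h := hinv _ (mul_mem x.2 y.2)
  rw [mul_inv_rev, hinv _ x.2, hinv _ y.2] at h
  exact h.symm

theorem le_centralizer {a : G} (ha : a ∈ (P : Subgroup G)) :
    (P : Subgroup G) ≤ centralizer ({a} : Set G) := fun _ hb =>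
  mem_centralizer_singleton_iff.2 (congrArg Subtype.val (S.isElementary.1.is_comm.comm ⟨_, hb⟩ ⟨a, ha⟩))

theorem complement_centralizer {a : G} (ha : a ∈ (P : Subgroup G)) (ha1 : a ≠ 1) :
    Cfsg.HasNormalPComplement 2 ↥(centralizer ({a} : Set G)) := by
  haveI : Fact (Nat.Prime 2) := ⟨Nat.prime_two⟩
  refine Transfer.hasNormalPComplement_of_normalizer_le_centralizer (P.subtype (S.le_centralizer ha))
    fun n hn => ?_
  have hnN : (n : G) ∈ normalizer ((P : Subgroup G) : Set G) := by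
    refine mem_normalizer_iff.2 fun y => ?_
    constructor
    · intro hy
      exact (mem_normalizer_iff.1 hn ⟨y, S.le_centralizer ha hy⟩).1 hy
    · intro hy
      have hc : y ∈ centralizer ({a} : Set G) := by
        have := mul_mem (mul_mem (inv_mem n.2) (S.le_centralizer ha hy)) n.2
        simpa [mul_assoc] using this
      exact (mem_normalizer_iff.1 hn ⟨y, hc⟩).2 hy
  set α := aut (P : Subgroup G) hnN with hα
  have hd := orderOf_aut_dvd_relIndex _ S.isElementary.1 hnN
  have h2 : ¬ 2 ∣ orderOf α := fun h =>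
    (P.subtype (le_normalizer : (P : Subgroup G) ≤ normalizer ((P : Subgroup G) : Set G))).not_dvd_index
      (h.trans hd)
  have h3 : ¬ 3 ∣ orderOf α := fun h => S.not_three (h.trans (orderOf_aut_dvd_card _ hnN))
  have h1 : α = 1 := eq_one_of_fix S.card_sylow h2 h3 (a := ⟨a, ha⟩)
    (fun e => ha1 (congrArg Subtype.val e)) (Subtype.ext (by
      rw [hα, aut_apply]
      show (n : G) * a * (n : G)⁻¹ = a
      rw [mem_centralizer_singleton_iff.1 n.2, mul_inv_cancel_right]))
  exact mem_centralizer_iff.2 fun r hr => Subtype.ext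
    (mem_centralizer_iff.1 (mem_centralizer_of_aut_eq_one _ hnN h1) (r : G) hr)

theorem solvable_centralizer {a : G} (ha : a ∈ (P : Subgroup G)) (ha1 : a ≠ 1) :
    Group.IsSolvable ↥(centralizer ({a} : Set G)) :=
  CoprimeNilMax.solvable_of_normal_complement (S.complement_centralizer ha ha1) rfl

theorem not_three_centralizer {a : G} (ha : a ∈ (P : Subgroup G)) (ha1 : a ≠ 1) :
    ¬ 3 ∣ Nat.card (centralizer ({a} : Set G)) :=
  S.not_three_of_solvable (S.solvable_centralizer ha ha1)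
    (S.card_sylow ▸ card_dvd_of_le (S.le_centralizer ha))

/-- `C(a) = O(C(a)) P`. -/
theorem centralizer_le_sup {a : G} (ha : a ∈ (P : Subgroup G)) (ha1 : a ≠ 1) :
    centralizer ({a} : Set G) ≤ Cfsg.centralizerPPrimeCore 2 a ⊔ (P : Subgroup G) := by
  haveI : Fact (Nat.Prime 2) := ⟨Nat.prime_two⟩
  set C := centralizer ({a} : Set G) with hC
  obtain ⟨P₀, N, hN, hNP⟩ := S.complement_centralizer ha ha1
  set P' := P.subtype (S.le_centralizer ha) with hP'
  have hcard : Nat.card (P₀ : Subgroup C) = Nat.card (P' : Subgroup C) :=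
    Nat.card_congr (P₀.equiv P').toEquiv
  have hodd : (Nat.card N).Coprime 2 :=
    (Nat.prime_two.coprime_iff_not_dvd.2 (hNP.index_eq_card ▸ P₀.not_dvd_index)).symm
  have hc : N.IsComplement' (P' : Subgroup C) := isComplement'_of_coprime
    (by rw [← hcard]; exact hNP.card_mul_card) (by
      obtain ⟨i, hi⟩ := P'.2.exists_card_eq
      rw [hi]
      exact hodd.pow_right i)
  have hle : N ≤ Cfsg.pPrimeCore 2 C := Cores.le_pPrimeCore hN hodd
  calc C = (⊤ : Subgroup C).map C.subtype := by rw [← MonoidHom.range_eq_map, range_subtype]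
    _ ≤ (Cfsg.pPrimeCore 2 C ⊔ (P' : Subgroup C)).map C.subtype :=
        map_mono (hc.sup_eq_top.ge.trans (sup_le_sup_right hle _))
    _ = _ := by
        rw [Subgroup.map_sup, hP', Sylow.coe_subtype, map_subgroupOf_eq_of_le (S.le_centralizer ha)]
        rfl

theorem contradiction_aux : False := by
  haveI : Fact (Nat.Prime 2) := ⟨Nat.prime_two⟩
  haveI : Fact (Nat.Prime 3) := ⟨Nat.prime_three⟩
  set A : Subgroup G := (P : Subgroup G) with hA
  set W : Subgroup G := ⨆ a : {a : G // a ∈ A ∧ a ≠ 1}, Cfsg.centralizerPPrimeCore 2 (a : G)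
    with hW
  obtain ⟨hWs, hW2, -⟩ := Signalizer.solvable_signalizer_functor (p := 2) (A := A) S.isElementary
    (by rw [hA, S.card_sylow]; norm_num)
    (Signalizer.isSolvableSignalizerFunctor_core S.isElementary
      fun a ha ha1 => S.solvable_centralizer ha ha1)
  rw [← hW] at hWs hW2
  have hNW : normalizer (A : Set G) ≤ normalizer (W : Set G) := normalizer_le_normalizer_iSup A
  have hPW : A ≤ normalizer (W : Set G) := le_normalizer.trans hNW
  have hW3 : ¬ 3 ∣ Nat.card W := by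
    intro h3
    have hcop : (Nat.card A).Coprime (Nat.card W) := by
      rw [hA, S.card_sylow, show 8 = 2 ^ 3 by norm_num]
      exact (Nat.prime_two.coprime_iff_not_dvd.2 hW2).pow_left 3
    obtain ⟨Q, hQ⟩ := Coprime.exists_invariant_sylow hPW hcop (Or.inr hWs) 3
    have hcQ : Nat.card ((Q : Subgroup W).map W.subtype) = Nat.card (Q : Subgroup W) :=
      card_map_of_injective W.subtype_injective
    obtain ⟨i, hi⟩ := Q.2.exists_card_eq
    have h2Q : ¬ 2 ∣ Nat.card ((Q : Subgroup W).map W.subtype) := by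
      rw [hcQ, hi]
      intro h
      have := (Nat.prime_dvd_prime_iff_eq Nat.prime_two Nat.prime_three).1
        (Nat.prime_two.dvd_of_dvd_pow h)
      omega
    have hle := Signalizer.le_of_elements (p := 2) S.isElementary
      (by rw [S.card_sylow]; norm_num) ⊥ ((Q : Subgroup W).map W.subtype) h2Q hQ
      fun a ha ha1 => by
        rw [le_bot_iff, ← card_eq_one]
        refine Nat.dvd_one.1 ?_
        have hc3 : Nat.Coprime (3 ^ i) (Nat.card (centralizer ({a} : Set G))) :=
          (Nat.prime_three.coprime_iff_not_dvd.2 (S.not_three_centralizer ha ha1)).pow_left i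
        rw [← hc3.gcd_eq_one]
        exact Nat.dvd_gcd (hi ▸ hcQ ▸ card_dvd_of_le inf_le_left) (card_dvd_of_le inf_le_right)
    rw [le_bot_iff, ← card_eq_one, hcQ] at hle
    have he := (Q : Subgroup W).card_mul_index
    rw [hle, one_mul] at he
    exact Q.not_dvd_index (by rw [he]; exact h3)
  set H : Subgroup G := W ⊔ normalizer (A : Set G) with hH
  have hH3 : ¬ 3 ∣ Nat.card H :=
    Signalizer.not_dvd_card_sup (p := 3) hW3 S.not_three hNW
  have hPH : A ≤ H := le_normalizer.trans le_sup_right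
  have hCH : ∀ a ∈ A, a ≠ 1 → centralizer ({a} : Set G) ≤ H := fun a ha ha1 =>
    (S.centralizer_le_sup ha ha1).trans (sup_le (le_trans (le_iSup
      (fun y : {y : G // y ∈ A ∧ y ≠ 1} => Cfsg.centralizerPPrimeCore 2 (y : G)) ⟨a, ha, ha1⟩)
        le_sup_left) hPH)
  have hconj : ∀ t ∈ H, orderOf t = 2 → ∃ h ∈ H, h * t * h⁻¹ ∈ A := by
    intro t ht hord
    obtain ⟨Q, hQ⟩ := (IsPGroup.of_card (n := 1) (G := zpowers (⟨t, ht⟩ : H))
      (by rw [Nat.card_zpowers, Subgroup.orderOf_mk, hord, pow_one])).exists_le_sylow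
    obtain ⟨h, hh⟩ := MulAction.exists_smul_eq H Q (P.subtype hPH)
    refine ⟨h, h.2, ?_⟩
    have hm : h * ⟨t, ht⟩ * h⁻¹ ∈ ((h • Q : Sylow 2 H) : Subgroup H) :=
      ⟨⟨t, ht⟩, hQ (mem_zpowers _), rfl⟩
    rw [hh] at hm
    exact hm
  have hSE : Cfsg.IsStronglyEmbedded H := by
    refine Involution.isStronglyEmbedded_iff_forall.2 ⟨fun e => hH3 ?_, ?_, fun g t ht htH hgH => ?_⟩
    · rw [e, card_top, S.card_eq]
      exact dvd_mul_of_dvd_left (by norm_num) k
    · exact even_iff_two_dvd.2 ((by rw [hA, S.card_sylow]; norm_num : 2 ∣ Nat.card A).trans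
        (card_dvd_of_le hPH))
    obtain ⟨h1, h1H, ha⟩ := hconj t htH ht
    obtain ⟨h2, h2H, hb⟩ := hconj _ hgH (by rw [Involution.orderOf_conj, ht])
    have ha1 : h1 * t * h1⁻¹ ≠ 1 := fun e => by
      rw [conj_eq_one_iff.1 e, orderOf_one] at ht; norm_num at ht
    have hb1 : h2 * (g * t * g⁻¹) * h2⁻¹ ≠ 1 := fun e => by
      rw [conj_eq_one_iff.1 (conj_eq_one_iff.1 e), orderOf_one] at ht; norm_num at ht
    obtain ⟨n, hn, he⟩ := S.trans _ ha _ hb ha1 hb1
    have hx : n⁻¹ * h2 * g * h1⁻¹ ∈ H := by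
      refine hCH _ ha ha1 (mem_centralizer_singleton_iff.2 ?_)
      calc n⁻¹ * h2 * g * h1⁻¹ * (h1 * t * h1⁻¹)
          = n⁻¹ * (h2 * (g * t * g⁻¹) * h2⁻¹) * (h2 * g * h1⁻¹) := by group
        _ = n⁻¹ * (n * (h1 * t * h1⁻¹) * n⁻¹) * (h2 * g * h1⁻¹) := by rw [he]
        _ = _ := by group
    have hnH : n ∈ H := le_sup_right (a := W) hn
    have : g = h2⁻¹ * (n * (n⁻¹ * h2 * g * h1⁻¹) * h1) := by group
    rw [this]
    exact mul_mem (inv_mem h2H) (mul_mem (mul_mem hnH hx) h1H)
  -- the odd core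
  set R := Cfsg.oddCore G with hR
  haveI : R.Normal := Cores.pPrimeCore_normal 2 G
  have hR2 : ¬ 2 ∣ Nat.card R := Cores.not_dvd_card_pPrimeCore
  have hWR : W ≤ R := by
    refine le_trans ?_ (Bender.oddCore_le Bender.rankOneHalf hSE)
    haveI : (W.subgroupOf H).Normal :=
      normal_subgroupOf_iff_le_normalizer le_sup_left |>.2 (sup_le le_normalizer hNW)
    rw [← map_subgroupOf_eq_of_le (le_sup_left : W ≤ H)]
    exact map_mono (Cores.le_pPrimeCore inferInstance (by
      rw [Cores.card_subgroupOf le_sup_left]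
      exact (Nat.prime_two.coprime_iff_not_dvd.2 hW2).symm))
  have hCR : ∀ a ∈ A, a ≠ 1 → centralizer ({a} : Set G) ≤ A ⊔ R := fun a ha ha1 =>
    (S.centralizer_le_sup ha ha1).trans (sup_le (le_trans ((le_iSup
      (fun y : {y : G // y ∈ A ∧ y ≠ 1} => Cfsg.centralizerPPrimeCore 2 (y : G))
        ⟨a, ha, ha1⟩).trans hWR) le_sup_right) le_sup_left)
  -- the quotient
  set π := QuotientGroup.mk' R with hπ
  set T : Sylow 2 (G ⧸ R) := P.mapSurjective (QuotientGroup.mk'_surjective R) with hT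
  have hTA : (T : Subgroup (G ⧸ R)) = A.map π := rfl
  have hinj : ∀ a ∈ A, π a = 1 → a = 1 := fun a ha e => by
    have haR : a ∈ R := (QuotientGroup.eq_one_iff a).1 e
    refine orderOf_eq_one_iff.1 (Nat.dvd_one.1 ?_)
    have hc : Nat.Coprime (Nat.card A) (Nat.card R) := by
      rw [hA, S.card_sylow, show 8 = 2 ^ 3 by norm_num]
      exact (Nat.prime_two.coprime_iff_not_dvd.2 hR2).pow_left 3
    rw [← hc.gcd_eq_one]
    exact Nat.dvd_gcd (orderOf_dvd_of_mem ha) (orderOf_dvd_of_mem haR)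
  have hT8 : Nat.card T = 8 := by
    show Nat.card (A.map π) = 8
    rw [← S.card_sylow]
    refine (Nat.card_congr (Equiv.ofBijective (fun a : A => (⟨π a, ⟨a, a.2, rfl⟩⟩ : A.map π))
      ⟨fun x y h => Subtype.ext (mul_inv_eq_one.1 (hinj _ (mul_mem x.2 (inv_mem y.2)) ?_)), ?_⟩)).symm
    · have h' : π x = π y := congrArg Subtype.val h
      rw [map_mul, map_inv, h', mul_inv_cancel]
    · rintro ⟨_, a, ha, rfl⟩
      exact ⟨⟨a, ha⟩, rfl⟩
  have hTsq : ∀ c ∈ (T : Subgroup (G ⧸ R)), c ^ 2 = 1 := by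
    rintro _ ⟨a, ha, rfl⟩
    rw [← map_pow, S.isElementary.2 a ha, map_one]
  have hTc : ∀ x ∈ (T : Subgroup (G ⧸ R)), ∀ y ∈ (T : Subgroup (G ⧸ R)), x * y = y * x := by
    rintro _ ⟨a, ha, rfl⟩ _ ⟨b, hb, rfl⟩
    rw [← map_mul, ← map_mul]
    exact congrArg π (congrArg Subtype.val (S.isElementary.1.is_comm.comm ⟨a, ha⟩ ⟨b, hb⟩))
  have hCT : ∀ a ∈ A, a ≠ 1 → centralizer ({π a} : Set (G ⧸ R)) ≤ T := by
    intro a ha ha1 x hx
    obtain ⟨g, rfl⟩ := QuotientGroup.mk'_surjective R x
    have ha2 : a * a = 1 := by rw [← pow_two]; exact S.isElementary.2 a ha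
    have hainv : a⁻¹ = a := inv_eq_of_mul_eq_one_left ha2
    set r := a⁻¹ * (g * a * g⁻¹) with hr
    have hrR : r ∈ R := by
      rw [← QuotientGroup.eq_one_iff, ← QuotientGroup.mk'_apply, hr]
      simp only [map_mul, map_inv]
      rw [mem_centralizer_singleton_iff.1 hx, mul_inv_cancel_right, inv_mul_cancel]
    have har : a * r = g * a * g⁻¹ := by rw [hr, mul_inv_cancel_left]
    have hinv : a * r * a⁻¹ = r⁻¹ := by
      have h2 : a * r * (a * r) = 1 := by
        rw [har, ← pow_two, conj_pow, S.isElementary.2 a ha, mul_one, mul_inv_cancel]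
      rw [hainv]
      exact eq_inv_of_mul_eq_one_left (by rw [← h2]; group)
    have hrodd : Odd (orderOf r) := Nat.not_even_iff_odd.1 fun h => hR2
      ((even_iff_two_dvd.1 h).trans (orderOf_dvd_of_mem hrR))
    obtain ⟨j, hj⟩ := hrodd
    set s := r ^ (j + 1) with hs
    have hss : s * s = r := by
      rw [hs, ← pow_add, show j + 1 + (j + 1) = orderOf r + 1 by omega, pow_succ,
        pow_orderOf_eq_one, one_mul]
    have hsinv : a * s * a⁻¹ = s⁻¹ := Involution.inverts_pow hinv (j + 1)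
    have hgc : s * g ∈ centralizer ({a} : Set G) := by
      refine mem_centralizer_singleton_iff.2 ?_
      have e : g * a * g⁻¹ = s⁻¹ * a * s := by
        rw [← har, ← hss, ← hsinv]
        group
      calc s * g * a = s * (g * a * g⁻¹) * g := by group
        _ = a * (s * g) := by rw [e]; group
    have hsg := hCR a ha ha1 hgc
    have hg : g ∈ A ⊔ R := by
      have := mul_mem (inv_mem (mem_sup_right (pow_mem hrR (j + 1)) : s ∈ A ⊔ R)) hsg
      rwa [inv_mul_cancel_left] at this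
    have h' : π g ∈ (A ⊔ R).map π := ⟨g, hg, rfl⟩
    rw [Subgroup.map_sup, QuotientGroup.map_mk'_self, sup_bot_eq] at h'
    exact h'
  have hnc : ¬ IsCyclic (T : Subgroup (G ⧸ R)) := by
    intro hcy
    obtain ⟨x, hx⟩ := hcy.exists_generator
    have h8 : orderOf x = 8 := (orderOf_eq_card_of_forall_mem_zpowers hx).trans hT8
    have : orderOf x ∣ 2 := orderOf_dvd_of_pow_eq_one (Subtype.ext (hTsq _ x.2))
    rw [h8] at this
    norm_num at this
  have hnn : ¬ (T : Subgroup (G ⧸ R)).Normal := by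
    intro hn
    haveI : Group.IsSolvable R := OddOrderTheorem.solvable
      (Nat.not_even_iff_odd.1 fun h => hR2 (even_iff_two_dvd.1 h))
    haveI : Group.IsSolvable (T : Subgroup (G ⧸ R)) :=
      Group.isSolvable_of_comm fun x y => Subtype.ext (hTc _ x.2 _ y.2)
    haveI : Group.IsSolvable ((G ⧸ R) ⧸ (T : Subgroup (G ⧸ R))) := OddOrderTheorem.solvable (by
      rw [← index_eq_card, ← Nat.not_even_iff_odd, even_iff_two_dvd]
      exact T.not_dvd_index)
    haveI : Group.IsSolvable (G ⧸ R) :=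
      (Solvable.isSolvable_subgroup_quotient_iff (T : Subgroup (G ⧸ R))).2 ⟨inferInstance, inferInstance⟩
    haveI : Group.IsSolvable G :=
      (Solvable.isSolvable_subgroup_quotient_iff R).2 ⟨inferInstance, inferInstance⟩
    obtain ⟨K, hK⟩ := Solvable.exists_card_eq_of_solvable S.card_eq S.coprime
    exact S.no_hall K hK
  have hC : ∀ t : G ⧸ R, orderOf t = 2 → IsMulCommutative (centralizer ({t} : Set (G ⧸ R))) ∧
      ∀ c ∈ centralizer ({t} : Set (G ⧸ R)), c ^ 2 = 1 := by
    intro t ht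
    obtain ⟨Q, hQ⟩ := (IsPGroup.of_card (n := 1) (G := zpowers t)
      (by rw [Nat.card_zpowers, ht, pow_one])).exists_le_sylow
    obtain ⟨g, hg⟩ := MulAction.exists_smul_eq (G ⧸ R) Q T
    have hm : g * t * g⁻¹ ∈ ((g • Q : Sylow 2 (G ⧸ R)) : Subgroup (G ⧸ R)) :=
      ⟨t, hQ (mem_zpowers t), rfl⟩
    rw [hg] at hm
    obtain ⟨a, ha, hat⟩ := hm
    have ha1 : a ≠ 1 := fun e => by
      rw [e, map_one] at hat
      rw [conj_eq_one_iff.1 hat.symm, orderOf_one] at ht
      norm_num at ht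
    have hmem : ∀ c ∈ centralizer ({t} : Set (G ⧸ R)), g * c * g⁻¹ ∈ (T : Subgroup (G ⧸ R)) := by
      intro c hc
      refine hCT a ha ha1 ?_
      rw [hat]
      refine mem_centralizer_singleton_iff.2 ?_
      calc g * c * g⁻¹ * (g * t * g⁻¹) = g * (c * t) * g⁻¹ := by group
        _ = g * (t * c) * g⁻¹ := by rw [mem_centralizer_singleton_iff.1 hc]
        _ = _ := by group
    refine ⟨⟨⟨fun x y => Subtype.ext ?_⟩⟩, fun c hc => ?_⟩
    · apply (MulAut.conj g).injective
      show MulAut.conj g ((x : G ⧸ R) * y) = MulAut.conj g ((y : G ⧸ R) * x)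
      rw [map_mul, map_mul]
      exact hTc _ (hmem _ x.2) _ (hmem _ y.2)
    · have := hTsq _ (hmem c hc)
      rw [conj_pow] at this
      exact conj_eq_one_iff.1 this
  obtain ⟨F, _, _, hF, ⟨e⟩⟩ := S1230.result T hnc hnn hC
  rw [hT8, ← Nat.card_eq_fintype_card] at hF
  have h504 : Nat.card (G ⧸ R) = 504 := by
    rw [Nat.card_congr e.toEquiv]
    have h := PSL2.card_psl_mul (F := F)
    rw [hF] at h
    norm_num at h
    exact h
  have h9 : 3 * 3 ∣ 24 * k := by
    rw [← S.card_eq]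
    exact ((by norm_num : 3 * 3 ∣ 504).trans (h504 ▸ dvd_rfl)).trans (card_quotient_dvd_card R)
  have h3k : 3 ∣ k := by
    rw [show 24 * k = 3 * (8 * k) by ring] at h9
    exact (Nat.Coprime.dvd_mul_left (by norm_num)).1 (Nat.dvd_of_mul_dvd_mul_left (by norm_num) h9)
  exact Nat.not_coprime_of_dvd_of_dvd (by norm_num : 1 < 3) (by norm_num) h3k S.coprime

end Seven

/-- `m = 24`. -/
theorem exists_twentyfour {k : ℕ} (hG : Nat.card G = 24 * k) (hk : Nat.Coprime 24 k) :
    ∃ H : Subgroup G, Nat.card H = 24 := by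
  haveI : Fact (Nat.Prime 2) := ⟨Nat.prime_two⟩
  obtain ⟨P⟩ := (inferInstance : Nonempty (Sylow 2 G))
  have hk2 : ¬ 2 ∣ 3 * k := fun h => by
    rcases Nat.prime_two.dvd_mul.1 h with h | h
    · norm_num at h
    · exact Nat.not_coprime_of_dvd_of_dvd one_lt_two (by norm_num) h hk
  have hP : Nat.card (P : Subgroup G) = 8 := by
    rw [Sylow.card_eq_multiplicity, hG, show 24 * k = 2 ^ 3 * (3 * k) by ring,
      Nat.factorization_mul (by norm_num) (show 3 * k ≠ 0 from fun h => hk2 (by rw [h]; exact dvd_zero 2)),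
      Finsupp.add_apply, Nat.Prime.factorization_pow Nat.prime_two, Finsupp.single_eq_same,
      Nat.factorization_eq_zero_of_not_dvd hk2]
    norm_num
  rcases exists_twentyfour_or_seven hG hk P hP with h | ⟨h3, htr⟩
  · exact h
  by_contra hno
  exact Seven.contradiction_aux ⟨hG, hk, hP, h3, htr, not_exists.1 hno⟩

end Cfsg.Agent.HallOrders
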