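import Cfsg.Agent.Lib.HallOrders.Basic
import Cfsg.Agent.Lib.HallOrders.Seven
import Cfsg.Agent.Lib.HalfClasses.Klein
import Cfsg.Agent.Lib.PSL2.Facts
import Cfsg.Agent.Lib.CharApp.Burnside

/-!
# Hall subgroups of order 60 (helper64)

* `exists_sixty` : modulo the Klein four case `HalfClasses.KleinGW` of Gorenstein-Walter
-/

set_option autoImplicit false
set_option linter.unusedSectionVars false
set_option linter.style.haveILetI false

namespace Cfsg.Agent.HallOrders

open Subgroup

universe u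

variable {G : Type u} [Group G] [Finite G]

theorem quotient_solvable_imp {R : Subgroup G} [R.Normal] (hR : ¬ 2 ∣ Nat.card R)
    (h : Group.IsSolvable (G ⧸ R)) : Group.IsSolvable G :=
  haveI : Group.IsSolvable R := OddOrderTheorem.solvable
    (Nat.not_even_iff_odd.1 fun he => hR (even_iff_two_dvd.1 he))
  (Solvable.isSolvable_subgroup_quotient_iff R).2 ⟨inferInstance, h⟩

/-- A field `F` and a subgroup of `G/R` isomorphic to `PSL(2,F)` of order divisible by five. -/
theorem hall_of_psl {k : ℕ} (hG : Nat.card G = 60 * k) (hk : Nat.Coprime 60 k) {R : Subgroup G}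
    [R.Normal] {L : Subgroup (G ⧸ R)} {F : Type} [Field F] [Fintype F]
    (e : L ≃* Matrix.ProjectiveSpecialLinearGroup (Fin 2) F) (h5 : 5 ∣ Nat.card L) :
    ∃ H : Subgroup G, Nat.card H = 60 := by
  have h5' : 5 ∣ Nat.card F * (Nat.card F ^ 2 - 1) := by
    rw [GLOrder.sq_sub_one, ← PSL2.card_psl_mul (F := F)]
    exact Dvd.dvd.mul_left (by rwa [← Nat.card_congr e.toEquiv]) _
  obtain ⟨A, ⟨eA⟩⟩ := PSL2.exists_alternatingFive_sub_iff.2 h5'
  set A' : Subgroup (G ⧸ R) := (A.map e.symm.toMonoidHom).map L.subtype with hA'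
  have hA60 : Nat.card A' = 60 := by
    rw [hA', card_map_of_injective L.subtype_injective, card_map_of_injective e.symm.injective,
      Nat.card_congr eA.toEquiv, PSL2.card_alt_five]
  set π := QuotientGroup.mk' R
  set K := A'.comap π with hK
  have hRK : R ≤ K := fun r hr => mem_comap.2 (by
    rw [show π r = 1 from (QuotientGroup.eq_one_iff r).2 hr]; exact one_mem _)
  have hcK : Nat.card K = 60 * Nat.card R := by
    rw [← Cores.card_map_mul_ker π K (by rwa [QuotientGroup.ker_mk']), hK,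
      map_comap_eq_self_of_surjective (QuotientGroup.mk'_surjective R), hA60, QuotientGroup.ker_mk']
  have hdvd : 60 * Nat.card R ∣ 60 * k := hG ▸ hcK ▸ card_subgroup_dvd_card K
  have hco : Nat.Coprime (Nat.card R) 60 :=
    (hk.symm.coprime_dvd_left (Nat.dvd_of_mul_dvd_mul_left (by norm_num) hdvd))
  set N := R.subgroupOf K with hN
  have hcN : Nat.card N = Nat.card R := Cores.card_subgroupOf hRK
  have hidx : N.index = 60 := by
    have h := N.card_mul_index
    rw [hcN, hcK, mul_comm 60] at h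
    exact Nat.eq_of_mul_eq_mul_left Nat.card_pos h
  obtain ⟨H, hH⟩ := exists_right_complement'_of_coprime (N := N) (by rw [hcN, hidx]; exact hco)
  refine ⟨H.map K.subtype, (card_map_of_injective K.subtype_injective).trans ?_⟩
  rw [← hidx]
  exact hH.symm.index_eq_card.symm

/-- An element of order five in the core: a contradiction. -/
theorem five_mem_core {k : ℕ} (hG : Nat.card G = 60 * k) (hk : Nat.Coprime 60 k) (P : Sylow 2 G)
    (hP : Nat.card (P : Subgroup G) = 4)
    (h5N : ¬ 5 ∣ Nat.card (normalizer ((P : Subgroup G) : Set G)))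
    {R : Subgroup G} [R.Normal] (h5R : 5 ∣ Nat.card R) {L : Subgroup (G ⧸ R)} [IsSimpleGroup L]
    (hL : ¬ IsMulCommutative L) (h4 : 4 ∣ Nat.card L) : False := by
  haveI : Fact (Nat.Prime 5) := ⟨by norm_num⟩
  haveI : Fact (Nat.Prime 2) := ⟨Nat.prime_two⟩
  obtain ⟨Q₀⟩ := (inferInstance : Nonempty (Sylow 5 R))
  set Q : Subgroup G := (Q₀ : Subgroup R).map R.subtype with hQ
  have hQ5 : Nat.card Q = 5 := by
    rw [hQ, card_map_of_injective R.subtype_injective, Sylow.card_eq_multiplicity]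
    have h1 : (Nat.card R).factorization 5 ≤ (Nat.card G).factorization 5 :=
      (Nat.factorization_le_iff_dvd Nat.card_pos.ne' Nat.card_pos.ne').2 (card_subgroup_dvd_card R) 5
    have h2 : (Nat.card G).factorization 5 = 1 := by
      have h5k : ¬ 5 ∣ 12 * k := fun h => by
        rcases (Fact.out : Nat.Prime 5).dvd_mul.1 h with h | h
        · norm_num at h
        · exact Nat.not_coprime_of_dvd_of_dvd (by norm_num : 1 < 5) (by norm_num) h hk
      rw [hG, show 60 * k = 5 ^ 1 * (12 * k) by ring,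
        Nat.factorization_mul (by norm_num) (show 12 * k ≠ 0 from fun h => h5k (by rw [h]; exact dvd_zero 5)),
        Finsupp.add_apply, Nat.Prime.factorization_pow (Fact.out : Nat.Prime 5), Finsupp.single_eq_same,
        Nat.factorization_eq_zero_of_not_dvd h5k]
    have h3 : 0 < (Nat.card R).factorization 5 :=
      (Fact.out : Nat.Prime 5).factorization_pos_of_dvd Nat.card_pos.ne' h5R
    rw [show (Nat.card R).factorization 5 = 1 by omega, pow_one]
  set π := QuotientGroup.mk' R
  set C := centralizer (Q : Set G) with hC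
  -- every element of the quotient comes from the normaliser of `Q`
  have hsurj : ∀ a : G ⧸ R, ∃ n ∈ normalizer (Q : Set G), π n = a := by
    intro a
    obtain ⟨g, rfl⟩ := QuotientGroup.mk'_surjective R a
    have hg : g ∈ normalizer (Q : Set G) ⊔ R := by
      rw [hQ, Sylow.normalizer_sup_eq_top Q₀]
      exact mem_top g
    obtain ⟨n, hn, r, hr, rfl⟩ := mem_sup_of_normal_right.1 hg
    refine ⟨n, hn, ?_⟩
    rw [map_mul, show π r = 1 from (QuotientGroup.eq_one_iff r).2 hr, mul_one]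
  have hcomm : ∀ n ∈ normalizer (Q : Set G), ∀ m ∈ normalizer (Q : Set G),
      n * m * n⁻¹ * m⁻¹ ∈ C := by
    intro n hn m hm
    haveI : IsCyclic Q := isCyclic_of_prime_card hQ5
    have h := congrArg (fun f : MulAut Q => f) (show aut Q hn * aut Q hm = aut Q hm * aut Q hn from
      (IsCyclic.mulAutMulEquiv Q).injective (by rw [map_mul, map_mul, mul_comm]))
    refine mem_centralizer_of_aut_eq_one Q
      (mul_mem (mul_mem (mul_mem hn hm) (inv_mem hn)) (inv_mem hm)) ?_
    show Q.normalizerMonoidHom (⟨n, hn⟩ * ⟨m, hm⟩ * ⟨n, hn⟩⁻¹ * ⟨m, hm⟩⁻¹) = 1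
    rw [map_mul, map_mul, map_mul, map_inv, map_inv]
    show aut Q hn * aut Q hm * (aut Q hn)⁻¹ * (aut Q hm)⁻¹ = 1
    rw [h, mul_inv_cancel_right, mul_inv_cancel]
  have hLC : L ≤ C.map π := by
    have hperf : commutator L = ⊤ := (Subgroup.Normal.eq_bot_or_eq_top
      (inferInstance : (commutator L).Normal)).resolve_left fun h => hL ⟨⟨fun x y => by
        have := (commutator_eq_bot_iff_center_eq_top (G := L)).1 h
        exact (mem_center_iff.1 (this ▸ mem_top y) x)⟩⟩
    have h1 : commutator L ≤ (C.map π).subgroupOf L := by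
      rw [commutator_def, commutator_le]
      intro x _ y _
      obtain ⟨n, hn, hnx⟩ := hsurj x
      obtain ⟨m, hm, hmy⟩ := hsurj y
      refine mem_subgroupOf.2 ⟨_, hcomm n hn m hm, ?_⟩
      simp only [map_mul, map_inv, hnx, hmy]
      rfl
    intro x hx
    exact mem_subgroupOf.1 (h1 (hperf ▸ mem_top (⟨x, hx⟩ : L)))
  have h4C : 4 ∣ Nat.card C :=
    (h4.trans (card_dvd_of_le hLC)).trans (card_map_dvd C π)
  obtain ⟨T⟩ := (inferInstance : Nonempty (Sylow 2 C))
  obtain ⟨i, hi⟩ := T.2.exists_card_eq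
  have hT4 : Nat.card ((T : Subgroup C).map C.subtype) = Nat.card (P : Subgroup G) := by
    rw [card_map_of_injective C.subtype_injective, hP]
    refine Nat.dvd_antisymm ?_ (T.pow_dvd_card_of_pow_dvd_card (n := 2) h4C)
    have h1 : Nat.card (T : Subgroup C) ∣ Nat.card (P : Subgroup G) :=
      hi ▸ P.pow_dvd_card_of_pow_dvd_card (hi ▸ (card_subgroup_dvd_card _).trans
        (card_subgroup_dvd_card C))
    rwa [hP] at h1
  let P' : Sylow 2 G := ((T.2.map C.subtype)).toSylow (by
    intro h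
    apply P.not_dvd_index
    have e := ((T : Subgroup C).map C.subtype).card_mul_index
    rw [hT4, ← (P : Subgroup G).card_mul_index] at e
    rwa [← Nat.eq_of_mul_eq_mul_left Nat.card_pos e])
  obtain ⟨g, hg⟩ := MulAction.exists_smul_eq G P' P
  have hQN : ∀ q ∈ Q, g * q * g⁻¹ ∈ normalizer ((P : Subgroup G) : Set G) := by
    intro q hq
    have hc : ∀ x ∈ (P : Subgroup G), (g * q * g⁻¹) * x * (g * q * g⁻¹)⁻¹ = x := by
      intro x hx
      rw [← hg] at hx
      obtain ⟨y, hy, rfl⟩ := hx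
      obtain ⟨z, -, rfl⟩ := hy
      show g * q * g⁻¹ * (g * z * g⁻¹) * (g * q * g⁻¹)⁻¹ = g * z * g⁻¹
      have e : q * (z : G) = z * q := mem_centralizer_iff.1 z.2 q hq
      calc g * q * g⁻¹ * (g * z * g⁻¹) * (g * q * g⁻¹)⁻¹ = g * (q * z) * q⁻¹ * g⁻¹ := by group
        _ = _ := by rw [e]; group
    refine Coprime.mem_normalizer_of_forall fun x hx => ?_
    rw [hc x hx]
    exact hx
  apply h5N
  rw [← hQ5, ← card_map_of_injective (f := (MulAut.conj g).toMonoidHom) (MulAut.conj g).injective]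
  exact card_dvd_of_le (by rintro _ ⟨q, hq, rfl⟩; exact hQN q hq)

/-- `m = 60`. -/
theorem exists_sixty (hGW : HalfClasses.KleinGW.{u}) {k : ℕ} (hG : Nat.card G = 60 * k)
    (hk : Nat.Coprime 60 k) : ∃ H : Subgroup G, Nat.card H = 60 := by
  haveI : Fact (Nat.Prime 2) := ⟨Nat.prime_two⟩
  obtain ⟨P⟩ := (inferInstance : Nonempty (Sylow 2 G))
  have hk2 : ¬ 2 ∣ 15 * k := fun h => by
    rcases Nat.prime_two.dvd_mul.1 h with h | h
    · norm_num at h
    · exact Nat.not_coprime_of_dvd_of_dvd one_lt_two (by norm_num) h hk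
  have hP : Nat.card (P : Subgroup G) = 4 := by
    rw [Sylow.card_eq_multiplicity, hG, show 60 * k = 2 ^ 2 * (15 * k) by ring,
      Nat.factorization_mul (by norm_num) (show 15 * k ≠ 0 from fun h => hk2 (by rw [h]; exact dvd_zero 2)),
      Finsupp.add_apply, Nat.Prime.factorization_pow Nat.prime_two, Finsupp.single_eq_same,
      Nat.factorization_eq_zero_of_not_dvd hk2]
    norm_num
  by_contra hno
  set N := normalizer ((P : Subgroup G) : Set G) with hN
  haveI : Fact (Nat.Prime 3) := ⟨Nat.prime_three⟩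
  have hPc : IsMulCommutative (P : Subgroup G) := IsPGroup.isMulCommutative_of_card_eq_prime_sq
    (show Nat.card (P : Subgroup G) = 2 ^ 2 by rw [hP]; norm_num)
  -- an element of the normaliser acting with order three
  obtain ⟨n, hn, hord⟩ : ∃ (n : G) (hn : n ∈ N), orderOf (aut (P : Subgroup G) hn) = 3 := by
    by_contra hcon
    apply hno
    refine hall_of_complement hG hk
      (Transfer.hasNormalPComplement_of_normalizer_le_centralizer P fun n hn => ?_)
    refine mem_centralizer_of_aut_eq_one _ hn ?_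
    by_contra hne
    apply hcon
    refine ⟨n, hn, ?_⟩
    have h2 : ¬ 2 ∣ orderOf (aut (P : Subgroup G) hn) := fun h =>
      (P.subtype (le_normalizer : (P : Subgroup G) ≤ N)).not_dvd_index
        (h.trans (orderOf_aut_dvd_relIndex _ hPc hn))
    have hd := orderOf_four_dvd hP (aut (P : Subgroup G) hn)
    have h6 : orderOf (aut (P : Subgroup G) hn) ≤ 6 := Nat.le_of_dvd (by norm_num) hd
    have h1 : orderOf (aut (P : Subgroup G) hn) ≠ 1 := fun h => hne (orderOf_eq_one_iff.1 h)
    interval_cases h : orderOf (aut (P : Subgroup G) hn) <;> omega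
  have h3N : 3 ∣ Nat.card N := hord ▸ orderOf_aut_dvd_card _ hn
  have h5N : ¬ 5 ∣ Nat.card N := fun h5 => hno (hall_sub hG hk N (normal_sylow_solvable P)
    (Nat.Coprime.mul_dvd_of_dvd_of_dvd (by norm_num : Nat.Coprime 12 5)
      (Nat.Coprime.mul_dvd_of_dvd_of_dvd (by norm_num : Nat.Coprime 4 3)
        (hP ▸ card_dvd_of_le le_normalizer) h3N) h5))
  have htr : ∀ a ∈ (P : Subgroup G), ∀ b ∈ (P : Subgroup G), a ≠ 1 → b ≠ 1 →
      ∃ m ∈ N, m * a * m⁻¹ = b := by
    intro a ha b hb ha1 hb1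
    obtain ⟨i, hi⟩ := transitive_of_prime hord hP (a := ⟨a, ha⟩) (b := ⟨b, hb⟩)
      (fun e => ha1 (congrArg Subtype.val e)) (fun e => hb1 (congrArg Subtype.val e))
    exact ⟨n ^ i, pow_mem hn i,
      (aut_apply (P : Subgroup G) (pow_mem hn i) ⟨a, ha⟩).symm.trans (by
        rw [aut_pow (P : Subgroup G) hn, hi])⟩
  obtain ⟨⟨a₀, ha₀⟩, hord₀⟩ := exists_prime_orderOf_dvd_card' (G := (P : Subgroup G)) 2
    (by rw [hP]; norm_num)
  rw [Subgroup.orderOf_mk] at hord₀
  have ha₁ : a₀ ≠ 1 := fun e => by rw [e, orderOf_one] at hord₀; norm_num at hord₀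
  have hsq : ∀ v ∈ (P : Subgroup G), v * v = 1 := by
    intro v hv
    rcases eq_or_ne v 1 with rfl | hv1
    · exact one_mul 1
    obtain ⟨m, -, rfl⟩ := htr a₀ ha₀ v hv ha₁ hv1
    rw [← pow_two, conj_pow, ← hord₀, pow_orderOf_eq_one, mul_one, mul_inv_cancel]
  -- the quotient by the core
  set R := Cfsg.oddCore G
  haveI : R.Normal := Cores.pPrimeCore_normal 2 G
  have hR2 : ¬ 2 ∣ Nat.card R := Cores.not_dvd_card_pPrimeCore
  set π := QuotientGroup.mk' R
  set T : Sylow 2 (G ⧸ R) := P.mapSurjective (QuotientGroup.mk'_surjective R)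
  have hTeq : (T : Subgroup (G ⧸ R)) = (P : Subgroup G).map π := rfl
  have hT4 : Nat.card (T : Subgroup (G ⧸ R)) = 4 := by
    rw [hTeq, ← hP]
    refine (Nat.card_congr (Equiv.ofBijective
      (fun a : (P : Subgroup G) => (⟨π a, ⟨a, a.2, rfl⟩⟩ : (P : Subgroup G).map π))
      ⟨fun x y h => Subtype.ext ?_, ?_⟩)).symm
    · have h' : π x = π y := congrArg Subtype.val h
      have hm : (x : G) * (y : G)⁻¹ ∈ R := by
        refine (QuotientGroup.eq_one_iff _).1 (?_ : π _ = 1)
        rw [map_mul, map_inv, h', mul_inv_cancel]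
      refine mul_inv_eq_one.1 (orderOf_eq_one_iff.1 (Nat.dvd_one.1 ?_))
      have hc : Nat.Coprime 4 (Nat.card R) := (show 4 = 2 ^ 2 by norm_num) ▸
        (Nat.prime_two.coprime_iff_not_dvd.2 hR2).pow_left 2
      rw [← hc.gcd_eq_one]
      exact Nat.dvd_gcd (hP ▸ orderOf_dvd_of_mem (mul_mem x.2 (inv_mem y.2)))
        (orderOf_dvd_of_mem hm)
    · rintro ⟨_, a, ha, rfl⟩
      exact ⟨⟨a, ha⟩, rfl⟩
  have hTsq : ∀ v ∈ (T : Subgroup (G ⧸ R)), v * v = 1 := by
    rintro _ ⟨a, ha, rfl⟩
    rw [← map_mul, hsq a ha, map_one]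
  have hd : HalfClasses.KleinData (T : Subgroup (G ⧸ R)) ⊤ := by
    refine ⟨inferInstance, le_top, HalfClasses.isKleinFour_of_sq hT4 hTsq, ?_, ?_, by simp, ?_⟩
    · rw [relIndex_top_right]
      exact T.not_dvd_index
    · rintro x ⟨a, ha, rfl⟩ hx y ⟨b, hb, rfl⟩ hy
      obtain ⟨m, -, rfl⟩ := htr a ha b hb (fun e => hx (by rw [e, map_one]))
        (fun e => hy (by rw [e, map_one]))
      exact ⟨π m, mem_top _, by rw [map_mul, map_mul, map_inv]⟩
    · rintro t ⟨j, hj⟩ hc
      have hz : IsPGroup 2 (zpowers t) := IsPGroup.of_card (n := j) (by rw [Nat.card_zpowers, hj])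
      have hle : zpowers t ≤ normalizer ((T : Subgroup (G ⧸ R)) : Set (G ⧸ R)) :=
        zpowers_le.2 (Coprime.mem_normalizer_of_forall fun v hv => by
          rw [hc v hv, mul_inv_cancel_right]; exact hv)
      have h := T.3 (T.2.to_sup_of_normal_left' hz hle) le_sup_left
      exact h ▸ mem_sup_right (mem_zpowers t)
  have hnotsolv : ¬ Group.IsSolvable (G ⧸ R) := fun h => hno
    (haveI := quotient_solvable_imp hR2 h; Solvable.exists_card_eq_of_solvable hG hk)
  rcases HalfClasses.shape_of_kleinData hGW hd (Cores.pPrimeCore_quotient_self 2) with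
    ⟨⟨e⟩⟩ | ⟨⟨e⟩⟩ | ⟨L, hLn, hLs, hLc, -, F, iF, jF, -, -, ⟨e⟩⟩
  · apply hnotsolv
    exact CharApp.isSolvable_of_card_eq_prime_pow_mul 2 3 Nat.prime_two Nat.prime_three _ _ rfl 2 1
      (by rw [Nat.card_congr e.toEquiv, PSL2.card_alt_four]; norm_num)
  · have h := card_quotient_dvd_card R
    rw [Nat.card_congr e.toEquiv, PSL2.card_perm_four, hG] at h
    exact hk2 (Nat.dvd_of_mul_dvd_mul_left (by norm_num : 0 < 4)
      (((by norm_num : 4 * 2 ∣ 24).trans h).trans (dvd_of_eq (by ring))))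
  haveI := hLn
  haveI := hLs
  by_cases h5 : 5 ∣ Nat.card L
  · exact hno (hall_of_psl hG hk e h5)
  -- `L` contains the Sylow 2-subgroup
  have hLbot : L ≠ ⊥ := fun h => hLc (by subst h; exact ⟨⟨fun x y => Subsingleton.elim _ _⟩⟩)
  have hTL : (T : Subgroup (G ⧸ R)) ≤ L :=
    HalfClasses.le_of_normalised hd (Cores.pPrimeCore_quotient_self 2) le_top
      (fun m _ x hx => hLn.conj_mem x hx m) hLbot
  have h4 : 4 ∣ Nat.card L := hT4 ▸ card_dvd_of_le hTL
  set M := L.comap π with hM
  have hPM : (P : Subgroup G) ≤ M := fun a ha => hTL ⟨a, ha, rfl⟩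
  have hMN : M ⊔ N = ⊤ := by
    have h := Sylow.normalizer_sup_eq_top (P.subtype hPM)
    rw [Sylow.coe_subtype, map_subgroupOf_eq_of_le hPM, sup_comm] at h
    exact h
  have hdvd : Nat.card G ∣ Nat.card M * Nat.card N := by
    have h := Cores.card_sup_dvd N M
    rw [sup_comm, hMN, card_top, mul_comm] at h
    exact h
  have h5G : 5 ∣ Nat.card G := ⟨12 * k, by rw [hG]; ring⟩
  have h5M : 5 ∣ Nat.card M :=
    ((Nat.Prime.dvd_mul (by norm_num)).1 (h5G.trans hdvd)).resolve_right h5N
  have hcM : Nat.card M = Nat.card L * Nat.card R := by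
    rw [← Cores.card_map_mul_ker π M (fun r hr => mem_comap.2 (by rw [MonoidHom.mem_ker.1 hr]; exact one_mem _)),
      hM, map_comap_eq_self_of_surjective (QuotientGroup.mk'_surjective R), QuotientGroup.ker_mk']
  rw [hcM] at h5M
  exact five_mem_core hG hk P hP h5N (((Nat.Prime.dvd_mul (by norm_num)).1 h5M).resolve_left h5) hLc h4

end Cfsg.Agent.HallOrders
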