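import Cfsg.Agent.Lib.HallOrders.Converse
import Cfsg.Agent.Lib.HallOrders.Seven
import Cfsg.Agent.Lib.HallOrders.Sixty

/-!
# The orders `m` for which coprime divisors give subgroups (helper64)

* `result_of_klein` : S4044 modulo the Klein four case `HalfClasses.KleinGW` of Gorenstein-Walter.
-/

set_option autoImplicit false
set_option linter.style.haveILetI false

namespace Cfsg.Agent.HallOrders

theorem result_of_klein (hGW : HalfClasses.KleinGW.{0}) (m : ℕ) (hm : 2 ≤ m) :
    (∀ (G : Type) [Group G] [Finite G], m ∣ Nat.card G → m.Coprime (Nat.card G / m) →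
        ∃ H : Subgroup G, Nat.card H = m) ↔
    (IsPrimePow m ∨ m % 4 = 2 ∨ m = 12 ∨ m = 24 ∨ m = 60) := by
  constructor
  · intro h
    by_contra hc
    push Not at hc
    obtain ⟨hpp, h4, h12, h24, h60⟩ := hc
    obtain ⟨G, iG, fG, hd, hco, hno⟩ := exists_counterexample hm hpp h4 h12 h24 h60
    obtain ⟨H, hH⟩ := h G hd hco
    exact hno H hH
  · intro h G _ _ hd hco
    obtain ⟨k, hk⟩ := hd
    rw [hk, Nat.mul_div_cancel_left _ (by omega)] at hco
    rcases h with h | h | rfl | rfl | rfl
    · obtain ⟨p, n, hp, -, rfl⟩ := (isPrimePow_nat_iff m).1 h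
      haveI := Fact.mk hp
      exact Sylow.exists_subgroup_card_pow_prime p ⟨k, hk⟩
    · haveI : Group.IsSolvable G := solvable_of_not_four_dvd (fun h4 => by
        have hm2 : ¬ 2 ∣ k := fun h2 =>
          Nat.not_coprime_of_dvd_of_dvd one_lt_two (by omega) h2 hco
        have hc4 : Nat.Coprime 4 k :=
          (show 4 = 2 ^ 2 by norm_num) ▸ (Nat.prime_two.coprime_iff_not_dvd.2 hm2).pow_left 2
        have := hc4.dvd_of_dvd_mul_right (hk ▸ h4)
        omega)
      exact Solvable.exists_card_eq_of_solvable hk hco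
    · exact exists_twelve hk hco
    · exact exists_twentyfour hk hco
    · exact exists_sixty hGW hk hco

end Cfsg.Agent.HallOrders
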